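import Mathlib

/-!
# S5239 fusion block, part 0 (helper3): a central involution of a nonabelian group of automorphisms
of `C_p × C_p` (`p` odd) is the inversion map.
-/

set_option autoImplicit false

namespace Cfsg.Agent.Helper21.P3

/-- `V` elementary abelian of order `p ^ 2`, `p` odd; `κ` an involutory automorphism commuting with two
automorphisms `β`, `γ` that do not commute with each other: then `κ` is the inversion. -/
theorem p3f_inversion {V : Type*} [CommGroup V] [Finite V] (p : ℕ) [Fact p.Prime] (hp2 : p ≠ 2)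
    (hcard : Nat.card V = p ^ 2) (hexp : ∀ x : V, x ^ p = 1) (κ β γ : MulAut V)
    (hκ2 : κ * κ = 1) (hκ1 : κ ≠ 1) (hβ : β * κ = κ * β) (hγ : γ * κ = κ * γ)
    (hβγ : β * γ ≠ γ * β) : ∀ x, κ x = x⁻¹ := by
  have hp : p.Prime := Fact.out
  have hodd : p % 2 = 1 := hp.eq_two_or_odd.resolve_left hp2
  have hκκ : ∀ x, κ (κ x) = x := fun x => by
    have h := congrArg (fun f : MulAut V => f x) hκ2
    simpa using h
  have hβ' : ∀ x, β (κ x) = κ (β x) := fun x => by
    have h := congrArg (fun f : MulAut V => f x) hβ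
    simpa using h
  have hγ' : ∀ x, γ (κ x) = κ (γ x) := fun x => by
    have h := congrArg (fun f : MulAut V => f x) hγ
    simpa using h
  have hsq1 : ∀ y : V, y ^ 2 = 1 → y = 1 := by
    intro y hy
    have h1 : y ^ (p + 1) = y := by rw [pow_succ, hexp, one_mul]
    have h2 : p + 1 = 2 * ((p + 1) / 2) := by omega
    rw [h2, pow_mul, hy, one_pow] at h1
    exact h1.symm
  have hself : ∀ y : V, y = y⁻¹ → y = 1 := by
    intro y hy
    apply hsq1
    rw [pow_two]
    nth_rewrite 2 [hy]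
    exact mul_inv_cancel y
  have hfa : ∀ y : V, κ y = y → κ y = y⁻¹ → y = 1 := fun y h1 h2 => hself y (h1.symm.trans h2)
  by_cases h1 : ∃ a, κ a = a ∧ a ≠ 1
  swap
  · -- no nontrivial fixed point
    push Not at h1
    intro x
    have hy : κ (x * κ x) = x * κ x := by rw [map_mul, hκκ, mul_comm]
    have h2 : x * κ x = 1 := by
      by_contra hne
      exact hne (h1 _ hy)
    exact eq_inv_of_mul_eq_one_right h2
  by_cases h2 : ∃ b, κ b = b⁻¹ ∧ b ≠ 1
  swap
  · -- no nontrivial inverted point: `κ = 1`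
    push Not at h2
    exfalso
    apply hκ1
    ext x
    have hy : κ (x * (κ x)⁻¹) = (x * (κ x)⁻¹)⁻¹ := by
      rw [map_mul, map_inv, hκκ, mul_inv_rev, inv_inv]
    have h3 : x * (κ x)⁻¹ = 1 := by
      by_contra hne
      exact hne (h2 _ hy)
    show κ x = x
    exact (mul_inv_eq_one.mp h3).symm
  -- mixed case: contradiction
  exfalso
  obtain ⟨a, haf, ha1⟩ := h1
  obtain ⟨b, hbf, hb1⟩ := h2
  have hκa : ∀ m : ℤ, κ (a ^ m) = a ^ m := fun m => by rw [map_zpow, haf]
  have hκb : ∀ m : ℤ, κ (b ^ m) = (b ^ m)⁻¹ := fun m => by rw [map_zpow, hbf, inv_zpow]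
  -- `a, b` generate
  have hgen : Subgroup.closure ({a, b} : Set V) = ⊤ := by
    set H := Subgroup.closure ({a, b} : Set V) with hH
    have haH : a ∈ H := Subgroup.subset_closure (Set.mem_insert _ _)
    have hbH : b ∈ H := Subgroup.subset_closure (Set.mem_insert_of_mem _ rfl)
    have hZle : Subgroup.zpowers a ≤ H := by
      rw [Subgroup.zpowers_le]; exact haH
    have hbZ : b ∉ Subgroup.zpowers a := by
      rintro ⟨i, hi⟩
      apply hb1
      apply hfa b
      · rw [← hi]; exact hκa i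
      · exact hbf
    have hlt : Subgroup.zpowers a < H := lt_of_le_of_ne hZle (fun h => hbZ (h ▸ hbH))
    have hcZ : Nat.card (Subgroup.zpowers a) = p := by
      rw [Nat.card_zpowers]
      exact orderOf_eq_prime (hexp a) ha1
    have hclt : Nat.card (Subgroup.zpowers a) < Nat.card H := by
      have h1 : (Subgroup.zpowers a : Set V) ⊂ (H : Set V) := by exact_mod_cast hlt
      have := Set.ncard_lt_ncard h1 (Set.toFinite _)
      rwa [← Nat.card_coe_set_eq, ← Nat.card_coe_set_eq] at this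
    have hdvd : Nat.card H ∣ p ^ 2 := by
      rw [← hcard]; exact Subgroup.card_subgroup_dvd_card H
    obtain ⟨k, hk, hHk⟩ := (Nat.dvd_prime_pow hp).mp hdvd
    have hk2 : k = 2 := by
      by_contra hne
      have hk1 : k ≤ 1 := by omega
      have : p ^ k ≤ p ^ 1 := Nat.pow_le_pow_right hp.pos hk1
      rw [pow_one] at this
      omega
    apply Subgroup.eq_top_of_card_eq
    rw [hHk, hk2, hcard]
  have hmem : ∀ z : V, ∃ m n : ℤ, a ^ m * b ^ n = z := by
    intro z
    have hz : z ∈ Subgroup.closure ({a, b} : Set V) := by rw [hgen]; exact Subgroup.mem_top z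
    exact Subgroup.mem_closure_pair.mp hz
  -- an automorphism commuting with `κ` preserves `⟨a⟩` and `⟨b⟩`
  have hpres : ∀ δ : MulAut V, (∀ x, δ (κ x) = κ (δ x)) →
      (∃ m : ℤ, δ a = a ^ m) ∧ (∃ n : ℤ, δ b = b ^ n) := by
    intro δ hδ
    constructor
    · obtain ⟨m, n, hmn⟩ := hmem (δ a)
      have h1 : κ (δ a) = δ a := by rw [← hδ, haf]
      rw [← hmn, map_mul, hκa, hκb] at h1
      have h2 : b ^ n = 1 := hself _ (mul_left_cancel h1).symm
      exact ⟨m, by rw [← hmn, h2, mul_one]⟩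
    · obtain ⟨m, n, hmn⟩ := hmem (δ b)
      have h1 : κ (δ b) = (δ b)⁻¹ := by rw [← hδ, hbf, map_inv]
      rw [← hmn, map_mul, hκa, hκb, mul_inv, ] at h1
      have h2 : a ^ m = 1 := hself _ (mul_right_cancel h1)
      exact ⟨n, by rw [← hmn, h2, one_mul]⟩
  obtain ⟨⟨i, hi⟩, ⟨j, hj⟩⟩ := hpres β hβ'
  obtain ⟨⟨i', hi'⟩, ⟨j', hj'⟩⟩ := hpres γ hγ'
  apply hβγ
  have hEq : Set.EqOn (β * γ).toMonoidHom (γ * β).toMonoidHom ({a, b} : Set V) := by
    intro z hz
    rcases hz with rfl | hz
    · show β (γ z) = γ (β z)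
      rw [hi', hi, map_zpow, map_zpow, hi, hi', ← zpow_mul, ← zpow_mul, mul_comm]
    · rw [Set.mem_singleton_iff] at hz
      subst hz
      show β (γ z) = γ (β z)
      rw [hj', hj, map_zpow, map_zpow, hj, hj', ← zpow_mul, ← zpow_mul, mul_comm]
  have h3 := MonoidHom.eq_of_eqOn_dense hgen hEq
  ext x
  exact DFunLike.congr_fun h3 x

end Cfsg.Agent.Helper21.P3
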