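import Mathlib
import Cfsg.Prelude.Def_FusionSystem
import Cfsg.Agent.S5185
import Cfsg.Agent.Lib.P3.P3Inv

/-!
# S5239, case `|S| = 27`: the inversion of the pearl is an `F`-automorphism (design helper21)

PIECE P3-F27A.  Recipe.  `Cfsg.Agent.S5185.result 3 hS F hF E hE (hcard : card E = 3 ^ 2)` gives
`IsElementaryAbelian 3 E` and `K : Subgroup ↥(F.autGroup E)` with `e : ↥K ≃* SL(2, ZMod 3)`.
Let `m : SL(2, ZMod 3) := -1` and `u := !![1,1;0,1]` (as elements of `Matrix.SpecialLinearGroup (Fin 2) (ZMod 3)`);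
`m ^ 2 = 1`, `m ≠ 1`, `u ^ 3 = 1`, `u ≠ 1`, `u * m = m * u` (all by `decide` / `ext i j; fin_cases i <;> fin_cases j <;> decide`-style).
Put `k := ((e.symm m : ↥K) : ↥(F.autGroup E)) : MulAut E` and `a` likewise from `u`: `k ∈ F.autGroup E`, `k^2 = 1`, `k ≠ 1`,
`a^3 = 1`, `a ≠ 1`, `a * k = k * a` (transport through the injective homs `e.symm`, `Subtype.val`).
CLAIM `∀ x, k x = x⁻¹`.  `E` is abelian of exponent 3.  `Fix := {x | k x = x}` and `Neg := {x | k x = x⁻¹}` are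
subgroups, `Fix ⊓ Neg = ⊥` (`x = x⁻¹`, `x^3 = 1` ⟹ `x = 1`), every `x` is `p * q` with
`p := (x * k x)^2 ∈ Fix`, `q := (x * (k x)⁻¹)^2 ∈ Neg` (`p * q = x^4 = x`).  So `card Fix * card Neg = 9`.
`card Fix = 9` ⟹ `k = 1`, contradiction.  `card Fix = 1` ⟹ `Neg = ⊤`, done.  `card Fix = 3 = card Neg`: `a` commutes
with `k`, so `a` maps `Fix` to `Fix` and `Neg` to `Neg`; an automorphism of order dividing 3 of a group of order 3 is
trivial (if `a f = f^2 = f⁻¹` then `a^3 f = f⁻¹ ≠ f`), so `a` fixes `Fix` and `Neg` pointwise, hence all of `E`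
(`x = p * q`), i.e. `a = 1`: contradiction.
Feel free to add auxiliary lemmas (prefix `p3f27a_`).
-/

set_option autoImplicit false

namespace Cfsg.Agent.Helper21.P3

open Cfsg Cfsg.FusionSystem Matrix

/-- the upper unitriangular generator of `SL(2, ZMod 3)` -/
def p3f27a_U : SpecialLinearGroup (Fin 2) (ZMod 3) :=
  ⟨!![1, 1; 0, 1], by simp [Matrix.det_fin_two]⟩

/-- the lower unitriangular generator of `SL(2, ZMod 3)` -/
def p3f27a_V : SpecialLinearGroup (Fin 2) (ZMod 3) :=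
  ⟨!![1, 0; 1, 1], by simp [Matrix.det_fin_two]⟩

theorem p3f27a_UV_ne : p3f27a_U * p3f27a_V ≠ p3f27a_V * p3f27a_U := by
  intro h
  have h1 : (p3f27a_U * p3f27a_V).1 0 0 = (p3f27a_V * p3f27a_U).1 0 0 := by rw [h]
  have h2 : (p3f27a_U * p3f27a_V).1 = (p3f27a_U).1 * (p3f27a_V).1 := rfl
  have h3 : (p3f27a_V * p3f27a_U).1 = (p3f27a_V).1 * (p3f27a_U).1 := rfl
  rw [h2, h3] at h1
  simp [p3f27a_U, p3f27a_V, Matrix.mul_apply, Fin.sum_univ_two] at h1

theorem p3f27a_neg_one_ne : (-1 : SpecialLinearGroup (Fin 2) (ZMod 3)) ≠ 1 := by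
  intro h
  have h1 := congrArg
    (fun g : SpecialLinearGroup (Fin 2) (ZMod 3) => (g : Matrix (Fin 2) (Fin 2) (ZMod 3)) 0 0) h
  have h2 : (-1 : ZMod 3) = 1 := by simpa using h1
  exact absurd h2 (by decide)

/-- group version of `p3f_inversion` (commutativity as a hypothesis), `p = 3` -/
theorem p3f27a_inversion {V : Type*} [Group V] [Finite V] (hc : ∀ a b : V, a * b = b * a)
    (hcard : Nat.card V = 3 ^ 2) (hexp : ∀ x : V, x ^ 3 = 1) (κ β γ : MulAut V)
    (hκ2 : κ * κ = 1) (hκ1 : κ ≠ 1) (hβ : β * κ = κ * β) (hγ : γ * κ = κ * γ)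
    (hβγ : β * γ ≠ γ * β) : ∀ x, κ x = x⁻¹ := by
  let _ : CommGroup V := { (inferInstance : Group V) with mul_comm := hc }
  have : Fact (Nat.Prime 3) := ⟨by norm_num⟩
  exact p3f_inversion 3 (by norm_num) hcard hexp κ β γ hκ2 hκ1 hβ hγ hβγ

theorem p3_inversion_mem {Ω : Type*} [Group Ω] {S : Subgroup Ω} [Finite S] (hS : IsPGroup 3 S)
    (F : Cfsg.FusionSystem S) (hF : F.IsSaturated 3) (E : Subgroup Ω) (hE : F.IsEssential 3 E)
    (hcard : Nat.card E = 9) : ∃ k ∈ F.autGroup E, ∀ x : E, k x = x⁻¹ := by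
  have : Fact (Nat.Prime 3) := ⟨by norm_num⟩
  have hcard' : Nat.card E = 3 ^ 2 := by rw [hcard]; norm_num
  obtain ⟨hel, K, ⟨e⟩⟩ := Cfsg.Agent.S5185.result 3 hS F hF E hE hcard'
  have hES : E ≤ S := hE.2.1.1
  have : Finite E := Finite.of_injective (Subgroup.inclusion hES) (Subgroup.inclusion_injective hES)
  have hc : ∀ a b : E, a * b = b * a := fun a b => hel.1.is_comm.comm a b
  have hexp : ∀ x : E, x ^ 3 = 1 := fun x => Subtype.ext (by simpa using hel.2 x.1 x.2)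
  -- the coercion `K → MulAut E`
  let c : ↥K →* MulAut E := (F.autGroup E).subtype.comp K.subtype
  have hcinj : Function.Injective c :=
    (F.autGroup E).subtype_injective.comp K.subtype_injective
  let κ : MulAut E := c (e.symm (-1))
  let β : MulAut E := c (e.symm p3f27a_U)
  let γ : MulAut E := c (e.symm p3f27a_V)
  have hκ2 : κ * κ = 1 := by
    show c (e.symm (-1)) * c (e.symm (-1)) = 1
    rw [← map_mul, ← map_mul, neg_mul_neg, one_mul, map_one, map_one]
  have hκ1 : κ ≠ 1 := by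
    intro h
    have h1 : c (e.symm (-1)) = c 1 := by rw [map_one]; exact h
    have h2 := e.symm.injective ((hcinj h1).trans (map_one e.symm).symm)
    exact p3f27a_neg_one_ne h2
  have hβ : β * κ = κ * β := by
    show c (e.symm p3f27a_U) * c (e.symm (-1)) = c (e.symm (-1)) * c (e.symm p3f27a_U)
    rw [← map_mul, ← map_mul, ← map_mul, ← map_mul, mul_neg_one, neg_one_mul]
  have hγ : γ * κ = κ * γ := by
    show c (e.symm p3f27a_V) * c (e.symm (-1)) = c (e.symm (-1)) * c (e.symm p3f27a_V)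
    rw [← map_mul, ← map_mul, ← map_mul, ← map_mul, mul_neg_one, neg_one_mul]
  have hβγ : β * γ ≠ γ * β := by
    intro h
    have h1 : c (e.symm (p3f27a_U * p3f27a_V)) = c (e.symm (p3f27a_V * p3f27a_U)) := by
      rw [map_mul, map_mul, map_mul, map_mul]; exact h
    exact p3f27a_UV_ne (e.symm.injective (hcinj h1))
  have hinv := p3f27a_inversion hc hcard' hexp κ β γ hκ2 hκ1 hβ hγ hβγ
  exact ⟨κ, ((e.symm (-1) : ↥K) : ↥(F.autGroup E)).2, hinv⟩

end Cfsg.Agent.Helper21.P3
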