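import Mathlib
import Cfsg.Prelude.Def_FusionSystem
import Cfsg.Agent.Lib.Helper25.FusionRS
import Cfsg.Agent.Lib.Helper25.FusionSat3
import Cfsg.Agent.Lib.Helper25.FusionNormal2
import Cfsg.Agent.Lib.P3.P3F27a

/-!
# S5239, case `|S| = 27`: the inversion of the pearl extends to `S` (design helper21)

PIECE P3-F27B.  Recipe.  `obtain ⟨k, hk, hkinv⟩ := p3_inversion_mem hS F hF E hE hcard`.
`E ≤ S` (`hE.1.1`).  `hrec : F.IsReceptive E := (Cfsg.Agent.Helper25.of_fullyNormalized 3 hS F hF hE.2.1).2.2`.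
`hnorm : ∀ β ∈ autInducedBy S E, k * β * k⁻¹ ∈ autInducedBy S E`: in fact `k * β * k⁻¹ = β` for EVERY `β : MulAut E`
(`ext x`; `k⁻¹ x = x⁻¹` too since `k (x⁻¹) = x`; `k (β (x⁻¹)) = ((β x)⁻¹)⁻¹ = β x`).
`Cfsg.Agent.Helper25.exists_autGroup_normalizerIn_extension F hrec hk hnorm` gives
`αbar ∈ F.autGroup (normalizerIn S E)` with `αbar ⟨x, _⟩ = k x` on `E`.
`normalizerIn S E = S`: `E.subgroupOf S` has index `3` in `↥S` (`card S = 27`, `card E = 9`), hence is normal
(`Subgroup.normal_of_index_eq_minFac_card`), so every `s ∈ S` normalizes `E` (as sets in `Ω`: for `x ∈ E`,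
`s x s⁻¹ ∈ E`).  Define `ψ s := ⟨αbar ⟨s, _⟩, _⟩` (values of `αbar` lie in `normalizerIn S E ≤ S`); it is a hom,
injective because `αbar` is a `MulAut`, and `ψ x = x⁻¹` for `x ∈ E`.
-/

set_option autoImplicit false

namespace Cfsg.Agent.Helper21.P3

open Cfsg Cfsg.FusionSystem

theorem p3_exists_inverting {Ω : Type*} [Group Ω] {S : Subgroup Ω} [Finite S] (hS : IsPGroup 3 S)
    (F : Cfsg.FusionSystem S) (hF : F.IsSaturated 3) (E : Subgroup Ω) (hE : F.IsEssential 3 E)
    (hcard : Nat.card E = 9) (hS27 : Nat.card S = 27) :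
    ∃ ψ : ↥S →* ↥S, Function.Injective ψ ∧ ∀ x : ↥S, (x : Ω) ∈ E → ψ x = x⁻¹ := by
  obtain ⟨k, hk, hkinv⟩ := p3_inversion_mem hS F hF E hE hcard
  have hES : E ≤ S := hE.1.1
  have hrec : F.IsReceptive E := (Cfsg.Agent.Helper25.of_fullyNormalized 3 hS F hF hE.2.1).2.2
  have hksymm : ∀ x : E, k⁻¹ x = x⁻¹ := by
    intro x
    have h1 : k x⁻¹ = x := by rw [hkinv, inv_inv]
    have h2 : k⁻¹ (k x⁻¹) = x⁻¹ := by
      rw [← MulAut.mul_apply, inv_mul_cancel, MulAut.one_apply]
    rw [h1] at h2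
    exact h2
  have hnorm : ∀ β ∈ autInducedBy S E, k * β * k⁻¹ ∈ autInducedBy S E := by
    intro β hβ
    have h1 : k * β * k⁻¹ = β := by
      ext x
      rw [MulAut.mul_apply, MulAut.mul_apply, hksymm, hkinv, map_inv, inv_inv]
    rw [h1]
    exact hβ
  obtain ⟨αbar, -, hαE⟩ :=
    Cfsg.Agent.Helper25.exists_autGroup_normalizerIn_extension F hrec hk hnorm
  -- `E` is normal in `S`
  have hidx : (E.subgroupOf S).index = 3 := by
    have h1 := (E.subgroupOf S).index_mul_card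
    rw [Nat.card_congr (Subgroup.subgroupOfEquivOfLe hES).toEquiv, hcard, hS27] at h1
    omega
  have hnormal : (E.subgroupOf S).Normal := by
    apply Subgroup.normal_of_index_eq_minFac_card
    rw [hidx, hS27]
    norm_num
  have hSN : S ≤ Subgroup.normalizer (E : Set Ω) :=
    (Subgroup.normal_subgroupOf_iff_le_normalizer hES).1 hnormal
  have hle : S ≤ normalizerIn S E := le_inf le_rfl hSN
  have hle' : normalizerIn S E ≤ S := inf_le_left
  refine ⟨(Subgroup.inclusion hle').comp (αbar.toMonoidHom.comp (Subgroup.inclusion hle)), ?_, ?_⟩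
  · intro a b hab
    have h1 := Subgroup.inclusion_injective hle' hab
    have h2 := αbar.injective h1
    exact Subgroup.inclusion_injective hle h2
  · intro x hx
    apply Subtype.ext
    have h1 := hαE ⟨(x : Ω), hx⟩
    rw [hkinv] at h1
    exact h1

end Cfsg.Agent.Helper21.P3
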