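import Mathlib
import Cfsg.Agent.Lib.Helper22.MaxClass
import Cfsg.Agent.Lib.Helper26.OrderCube

/-!
# S5239, case `|S| = 27`: group theory (design helper21)

PIECE P3-G27.  `X` nonabelian of order `27`, `E ≤ X` elementary abelian of order `9`,
`ψ : X →* X` injective with `ψ x = x⁻¹` on `E`.  Then `X` has exponent `3`.

Recipe.  `Z := center X` has order `3` (`Cfsg.Agent.Helper22.card_center_of_card_cube 3`), `X / Z` has order `9`, is
not cyclic, so `commutator X ≤ Z` (class 2) and `y ^ 3 ∈ Z` for all `y`; `Z ≤ E` (otherwise `X = E Z` is abelian: `E`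
is abelian of index `3`).  `E` is normal (`commutator X ≤ Z ≤ E`).  `ψ` is bijective (injective on a finite type) and
`ψ '' E = E`.  For `y ∈ E` done by `hel`.  Let `y ∉ E`; then `ψ y ∉ E`.  `X / E` has order 3, so
`ψ y = y ^ ε * e'` with `e' ∈ E`, `ε ∈ {1, 2}`.  Pick `e ∈ E`, `e ∉ Z`; `c := ⁅e, y⁆ ∈ Z`, `c ≠ 1` (else `y`
centralizes `E ⊔ ⟨y⟩ = ⊤`... precisely: `C_X(e) ⊇ E`, and `e ∉ Z` gives `C_X(e) = E`).  Commutators are central,
hence bimultiplicative: `ψ c = ⁅ψ e, ψ y⁆ = ⁅e⁻¹, y ^ ε * e'⁆ = c ^ (-ε)` (`E` abelian), while `ψ c = c⁻¹` as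
`c ∈ Z ≤ E`.  So `ε = 1`.  Then `ψ (y ^ 3) = (y * e') ^ 3 = y ^ 3 * e' ^ 3 * ⁅e', y⁆ ^ 3 = y ^ 3` (class two, `p = 3`:
`(a b)^3 = a^3 b^3 ⁅b,a⁆^3`, see `Cfsg.Agent.Lib.Helper22.ClassTwo`), but `y ^ 3 ∈ Z ≤ E` gives `ψ (y^3) = (y^3)⁻¹`.
Hence `(y^3)^2 = 1`, and `(y^3)^3 = 1` (`Z` of order 3), so `y ^ 3 = 1`.
Feel free to add auxiliary lemmas (prefix `p3g27_`).
-/

set_option autoImplicit false

namespace Cfsg.Agent.Helper21.P3

open scoped commutatorElement

/-- a subgroup of a group of order 27 properly containing a subgroup of order 9 is everything -/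
theorem p3g27_top_of_lt {X : Type*} [Group X] [Finite X] (hX : Nat.card X = 27)
    (E : Subgroup X) (hE : Nat.card E = 9) (K : Subgroup X) (hEK : E ≤ K)
    (hne : ∃ y ∈ K, y ∉ E) : K = ⊤ := by
  have h1 : Nat.card E ∣ Nat.card K := Subgroup.card_dvd_of_le hEK
  have h2 : Nat.card K ∣ Nat.card X := Subgroup.card_subgroup_dvd_card K
  rw [hE] at h1
  rw [hX] at h2
  have h3 : Nat.card K ≠ 9 := by
    intro h
    obtain ⟨y, hyK, hyE⟩ := hne
    have : E = K := Subgroup.eq_of_le_of_card_ge hEK (by rw [h, hE])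
    exact hyE (this ▸ hyK)
  have h4 : Nat.card K ≤ 27 := Nat.le_of_dvd (by norm_num) h2
  have h5 : Nat.card K = 27 := by
    have hpos : 0 < Nat.card K := Nat.card_pos
    interval_cases (Nat.card K) <;> omega
  exact (Subgroup.card_eq_iff_eq_top K).1 (by rw [h5, hX])

/-- the cube map of a nonabelian group of order 27 as a homomorphism -/
theorem p3g27_mul_pow {X : Type*} [Group X] (hcomm : ∀ u v : X, ⁅u, v⁆ ∈ Subgroup.center X)
    (hz3 : ∀ z ∈ Subgroup.center X, z ^ 3 = 1) (a b : X) : (a * b) ^ 3 = a ^ 3 * b ^ 3 := by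
  have hc' : ∀ g : X, g * ⁅b, a⁆ = ⁅b, a⁆ * g :=
    fun g => Subgroup.mem_center_iff.1 (hcomm b a) g
  have h := Cfsg.Agent.Helper22.mul_pow_eq_of_central a b ⁅b, a⁆ hc'
    (Cfsg.Agent.Helper22.mul_eq_commutator_mul a b) 3
  rw [h]
  have : Nat.choose 3 2 = 3 := by decide
  rw [this, hz3 _ (hcomm b a), one_mul]

theorem p3g27_comm_mul {X : Type*} [Group X] (hcomm : ∀ u v : X, ⁅u, v⁆ ∈ Subgroup.center X)
    (e a b : X) : ⁅e, a * b⁆ = ⁅e, a⁆ * ⁅e, b⁆ := by
  have h1 : ⁅e, a * b⁆ = ⁅e, a⁆ * (a * ⁅e, b⁆ * a⁻¹) := by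
    simp only [commutatorElement_def]; group
  have h2 : a * ⁅e, b⁆ * a⁻¹ = ⁅e, b⁆ := by
    have := Subgroup.mem_center_iff.1 (hcomm e b) a
    rw [this, mul_inv_cancel_right]
  rw [h1, h2]

theorem p3_exp_of_inverting {X : Type*} [Group X] [Finite X] (hX : Nat.card X = 27)
    (hna : ¬ IsMulCommutative X) (E : Subgroup X) (hE : Nat.card E = 9)
    (hel : ∀ x ∈ E, x ^ 3 = 1) (ψ : X →* X) (hinj : Function.Injective ψ)
    (hψ : ∀ x ∈ E, ψ x = x⁻¹) : ∀ y : X, y ^ 3 = 1 := by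
  haveI : Fact (Nat.Prime 3) := ⟨Nat.prime_three⟩
  have hX' : Nat.card X = 3 ^ 3 := by rw [hX]; norm_num
  have hZ : Nat.card (Subgroup.center X) = 3 :=
    Cfsg.Agent.Helper22.card_center_of_card_cube 3 hX' hna
  have hcomm : ∀ u v : X, ⁅u, v⁆ ∈ Subgroup.center X := by
    intro u v
    have := Cfsg.Agent.Helper22.comm_mem_center_of_card_cube 3 hX' hna u v
    rwa [← commutatorElement_def] at this
  have hcube : ∀ a : X, a ^ 3 ∈ Subgroup.center X :=
    Cfsg.Agent.Helper22.pow_prime_mem_center_of_card_cube 3 hX' hna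
  have hz3 : ∀ z ∈ Subgroup.center X, z ^ 3 = 1 := by
    intro z hz
    have h := pow_card_eq_one' (G := Subgroup.center X) (x := ⟨z, hz⟩)
    rw [hZ] at h
    exact congrArg Subtype.val h
  -- `E` is abelian
  have hEc : ∀ a ∈ E, ∀ b ∈ E, a * b = b * a := by
    intro a ha b hb
    have hE2 : Nat.card E = 3 ^ 2 := by rw [hE]; norm_num
    have := IsPGroup.commutative_of_card_eq_prime_sq hE2 (⟨a, ha⟩ : E) ⟨b, hb⟩
    exact congrArg Subtype.val this
  -- `Z ≤ E`
  have hZE : Subgroup.center X ≤ E := by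
    intro z hz
    by_contra hzE
    have hCtop : Subgroup.centralizer (E : Set X) = ⊤ := by
      apply p3g27_top_of_lt hX E hE
      · intro a ha
        rw [Subgroup.mem_centralizer_iff]
        intro b hb
        exact hEc b hb a ha
      · exact ⟨z, Subgroup.center_le_centralizer _ hz, hzE⟩
    have hEZ : E ≤ Subgroup.center X := by
      intro e he
      rw [Subgroup.mem_center_iff]
      intro g
      have hg : g ∈ Subgroup.centralizer (E : Set X) := by rw [hCtop]; trivial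
      exact ((Subgroup.mem_centralizer_iff.1 hg) e he).symm
    have := Subgroup.card_le_of_le hEZ
    omega
  -- an element of `E` outside the centre
  obtain ⟨e, heE, heZ⟩ : ∃ e ∈ E, e ∉ Subgroup.center X := by
    by_contra hcon
    push_neg at hcon
    have := Subgroup.card_le_of_le (show E ≤ Subgroup.center X from hcon)
    omega
  -- `E` is normal
  haveI hEn : E.Normal := by
    constructor
    intro a ha g
    have h1 : g * a * g⁻¹ = ⁅g, a⁆ * a := by
      simp only [commutatorElement_def]; group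
    rw [h1]
    exact E.mul_mem (hZE (hcomm g a)) ha
  -- `ψ` inverts the centre
  have hψZ : ∀ z ∈ Subgroup.center X, ψ z = z⁻¹ := fun z hz => hψ z (hZE hz)
  intro y
  by_cases hyE : y ∈ E
  · exact hel y hyE
  -- `c = ⁅e, y⁆ ≠ 1`
  have hc1 : ⁅e, y⁆ ≠ 1 := by
    intro h
    apply heZ
    have hCtop : Subgroup.centralizer ({e} : Set X) = ⊤ := by
      apply p3g27_top_of_lt hX E hE
      · intro a ha
        rw [Subgroup.mem_centralizer_singleton_iff]
        exact hEc a ha e heE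
      · refine ⟨y, ?_, hyE⟩
        rw [Subgroup.mem_centralizer_singleton_iff]
        exact (commutatorElement_eq_one_iff_mul_comm.1 h).symm
    rw [Subgroup.mem_center_iff]
    intro g
    have hg : g ∈ Subgroup.centralizer ({e} : Set X) := by rw [hCtop]; trivial
    exact Subgroup.mem_centralizer_singleton_iff.1 hg
  -- decomposition of `ψ y`
  have htop : Subgroup.zpowers y ⊔ E = ⊤ := by
    apply p3g27_top_of_lt hX E hE _ le_sup_right
    exact ⟨y, (le_sup_left : Subgroup.zpowers y ≤ _) (Subgroup.mem_zpowers y), hyE⟩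
  have hmem : ψ y ∈ Subgroup.zpowers y ⊔ E := by rw [htop]; trivial
  rw [← SetLike.mem_coe, Subgroup.mul_normal, Set.mem_mul] at hmem
  obtain ⟨h, hh, e', he', hprod⟩ := hmem
  obtain ⟨k, rfl⟩ := Subgroup.mem_zpowers_iff.1 hh
  -- the two homomorphisms
  let κ : X →* X :=
    { toFun := fun x => x ^ 3
      map_one' := one_pow 3
      map_mul' := p3g27_mul_pow hcomm hz3 }
  let χ : X →* X :=
    { toFun := fun x => ⁅e, x⁆
      map_one' := by simp
      map_mul' := p3g27_comm_mul hcomm e }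
  have hχE : ∀ a ∈ E, χ a = 1 := by
    intro a ha
    show ⁅e, a⁆ = 1
    rw [commutatorElement_eq_one_iff_mul_comm]
    exact hEc e heE a ha
  have hκE : ∀ a ∈ E, κ a = 1 := fun a ha => hel a ha
  -- `χ (ψ y) = χ y`
  have h1 : χ (ψ y) = χ y := by
    show ⁅e, ψ y⁆ = ⁅e, y⁆
    have he1 : ψ e⁻¹ = e := by rw [hψ _ (E.inv_mem heE), inv_inv]
    have h2 : ⁅e, ψ y⁆ = ψ ⁅e⁻¹, y⁆ := by
      rw [map_commutatorElement, he1]
    have h3 : ⁅e⁻¹, y⁆ = (⁅e, y⁆)⁻¹ := by
      have hm : ⁅e⁻¹ * e, y⁆ = 1 := by simp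
      have h4 : ⁅e⁻¹ * e, y⁆ = ⁅e⁻¹, y⁆ * ⁅e, y⁆ := by
        have h5 : ⁅e⁻¹ * e, y⁆ = e⁻¹ * ⁅e, y⁆ * e⁻¹⁻¹ * ⁅e⁻¹, y⁆ := by
          simp only [commutatorElement_def]; group
        have h6 : e⁻¹ * ⁅e, y⁆ * e⁻¹⁻¹ = ⁅e, y⁆ := by
          have := Subgroup.mem_center_iff.1 (hcomm e y) e⁻¹
          rw [this, mul_inv_cancel_right]
        rw [h5, h6]
        exact (Subgroup.mem_center_iff.1 (hcomm e y) _).symm
      rw [h4] at hm
      exact eq_inv_of_mul_eq_one_left hm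
    rw [h2, h3, map_inv, hψZ _ (hcomm e y), inv_inv]
  -- hence `c ^ k = c`
  have h2 : χ y ^ k = χ y := by
    have h2' : χ (ψ y) = χ y ^ k := by
      rw [← hprod, map_mul, map_zpow, hχE e' he', mul_one]
    rw [← h2']
    exact h1
  -- `κ (ψ y) = (κ y)⁻¹`
  have h3 : κ (ψ y) = (κ y)⁻¹ := by
    show (ψ y) ^ 3 = (y ^ 3)⁻¹
    rw [← map_pow, hψZ _ (hcube y)]
  have h4 : κ y ^ k = (κ y)⁻¹ := by
    have h4' : κ (ψ y) = κ y ^ k := by
      rw [← hprod, map_mul, map_zpow, hκE e' he', mul_one]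
    rw [← h4']
    exact h3
  -- `3 ∣ k - 1`
  have hord : orderOf (χ y) = 3 := by
    apply orderOf_eq_prime
    · exact hz3 _ (hcomm e y)
    · exact hc1
  have hk : (3 : ℤ) ∣ k - 1 := by
    have : χ y ^ (k - 1) = 1 := by
      rw [zpow_sub, zpow_one, h2, mul_inv_cancel]
    have := orderOf_dvd_iff_zpow_eq_one.2 this
    rwa [hord] at this
  obtain ⟨m, hm⟩ := hk
  have hk' : k = 1 + 3 * m := by linarith
  have hκ3 : κ y ^ (3 : ℤ) = 1 := by
    have := hz3 _ (hcube y)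
    show (y ^ 3) ^ (3 : ℤ) = 1
    exact_mod_cast this
  have h5 : κ y ^ k = κ y := by
    rw [hk', zpow_add, zpow_one, zpow_mul, hκ3, one_zpow, mul_one]
  have h6 : κ y * κ y = 1 := by
    have : κ y = (κ y)⁻¹ := h5.symm.trans h4
    calc κ y * κ y = κ y * (κ y)⁻¹ := by rw [← this]
      _ = 1 := mul_inv_cancel _
  have h7 : κ y = 1 := by
    have h8 : κ y ^ 3 = 1 := hz3 _ (hcube y)
    have : κ y ^ 3 = κ y * κ y * κ y := by rw [pow_succ, pow_succ, pow_one]
    rw [this, h6, one_mul] at h8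
    exact h8
  exact h7

end Cfsg.Agent.Helper21.P3
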