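import Mathlib
import Cfsg.Prelude.Def_FusionSystem
import Cfsg.Agent.Lib.Helper26.OrderCube
import Cfsg.Agent.Lib.P3.P3G27
import Cfsg.Agent.Lib.P3.P3F27b

/-!
# S5239, case `|S| = 27` assembled (design helper21)

PIECE P3-CASE27.  Recipe.  `hna : ¬ IsMulCommutative ↥S`: otherwise the class is `≤ 1`
(`Group.IsNilpotent.nilpotencyClass_le_one_iff`, as in `Cfsg.Agent.Helper22.maxClass_base`), contradicting `hcl`.
`Cfsg.Agent.Helper26.isExtraspecial_of_card_cube 3 (hB : card ↥S = 3 ^ 3) hna`.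
Exponent: `obtain ⟨ψ, hinj, hψ⟩ := p3_exists_inverting hS F hF E hE hcard hS27`, apply `p3_exp_of_inverting` to
`X := ↥S`, `E' := E.subgroupOf S` (card 9 via `Subgroup.subgroupOfEquivOfLe hE.1.1`), to get `∀ y : ↥S, y ^ 3 = 1`;
then `Monoid.exponent ↥S ∣ 3` (`Monoid.exponent_dvd_of_forall_pow_eq_one`) and `≠ 1`
(`Monoid.exponent_eq_one_iff`/nontrivial since card = 27), so `= 3`.
-/

set_option autoImplicit false

namespace Cfsg.Agent.Helper21.P3

open Cfsg Cfsg.FusionSystem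

theorem p3_case27 {Ω : Type*} [Group Ω] {S : Subgroup Ω} [Finite S] (hS : IsPGroup 3 S)
    (F : Cfsg.FusionSystem S) (hF : F.IsSaturated 3) (E : Subgroup Ω) (hE : F.IsEssential 3 E)
    (hcard : Nat.card E = 9) (hel : ∀ x ∈ E, x ^ 3 = 1) (hS27 : Nat.card S = 27)
    (hcl : Group.nilpotencyClass ↥S = 2) :
    Cfsg.IsExtraspecial 3 ↥S ∧ Monoid.exponent ↥S = 3 := by
  have hfact : Fact (Nat.Prime 3) := ⟨by norm_num⟩
  have hnil : Group.IsNilpotent ↥S := hS.isNilpotent
  have hna : ¬ IsMulCommutative ↥S := by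
    intro h
    have h1 : Group.nilpotencyClass ↥S ≤ 1 :=
      Group.IsNilpotent.nilpotencyClass_le_one_iff.mpr h
    omega
  have hB : Nat.card ↥S = 3 ^ 3 := by rw [hS27]; norm_num
  have hext := Cfsg.Agent.Helper26.isExtraspecial_of_card_cube 3 hB hna
  refine ⟨hext, ?_⟩
  obtain ⟨ψ, hinj, hψ⟩ := p3_exists_inverting hS F hF E hE hcard hS27
  have hES : E ≤ S := hE.1.1
  have hcardE' : Nat.card (E.subgroupOf S) = 9 := by
    rw [Nat.card_congr (Subgroup.subgroupOfEquivOfLe hES).toEquiv, hcard]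
  have hall : ∀ y : ↥S, y ^ 3 = 1 := by
    apply p3_exp_of_inverting hS27 hna (E.subgroupOf S) hcardE' ?_ ψ hinj ?_
    · intro x hx
      rw [Subgroup.mem_subgroupOf] at hx
      apply Subtype.ext
      have h3 := hel (x : Ω) hx
      simpa using h3
    · intro x hx
      exact hψ x (Subgroup.mem_subgroupOf.mp hx)
  have hdvd : Monoid.exponent ↥S ∣ 3 := Monoid.exponent_dvd_of_forall_pow_eq_one hall
  have hne : Monoid.exponent ↥S ≠ 1 := by
    intro h1
    have hsub : Subsingleton ↥S := Monoid.exp_eq_one_iff.mp h1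
    have hone : Nat.card ↥S = 1 := Nat.card_eq_one_iff_unique.mpr ⟨hsub, ⟨1⟩⟩
    omega
  rcases (Nat.dvd_prime (by norm_num : Nat.Prime 3)).mp hdvd with h | h
  · exact absurd h hne
  · exact h

end Cfsg.Agent.Helper21.P3
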