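import Mathlib
import Cfsg.Agent.Lib.MC4.MC4Count
import Cfsg.Agent.Lib.Helper18.ChainCount

/-!
# The finer count: subgroups of `M_2` have `|H : ℧₁(H)| ≤ p^(p-1)` (design helper21)

PIECE P3-COUNT.  Both statements are COPIES of existing proofs with one extra hypothesis.
`p3_chain_count`: copy the proof of `Cfsg.Agent.Helper18.ChainCount.chain_count` (Lib/Helper18/ChainCount.lean): its
internal `claim` at `k = n - p` reads `card (H ⊓ C 1) ≤ card (B ⊓ C p) * card (H ⊓ C (n-p+1))`; with `H ≤ C 1`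
(`inf_eq_left`), `card (B ⊓ C p) ≤ card B` and `card (H ⊓ C (n-p+1)) ≤ card (C (n-p+1)) ≤ p^(p-1)` this is the claim
(no final factor `p` for the step `C 0 / C 1`).
`p3_count_M2`: copy the proof of `mc4_count` (Lib/MC4/MC4Count.lean) with `p3_chain_count` in place of `chain_count`,
`hH1 : H ≤ mc4Chain M 1 = M` from `hH` and `hM : ∀ g, g ∈ M ↔ InM Y 2 g`; the passage from
`card H ≤ p^(p-1) * card B` to `B.relIndex H ≤ p^(p-1)` is the same as at the end of `mc4_count`.
-/

set_option autoImplicit false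

namespace Cfsg.Agent.Helper21.MC

open scoped commutatorElement

theorem p3_chain_count {G : Type*} [Group G] [Finite G] {p : ℕ} [hp : Fact p.Prime] (hG : IsPGroup p G)
    (n : ℕ) (C : ℕ → Subgroup G) (hanti : Antitone C)
    (h0 : C 0 = ⊤) (hn : C n = ⊥)
    (hstep : ∀ i, i < n → Nat.card (C i) ≤ p * Nat.card (C (i + 1))) (hpn : p ≤ n)
    (H B : Subgroup G)
    (hPS : ∀ i, 1 ≤ i → i + p ≤ n → ∀ h ∈ H, h ∈ C i → h ∉ C (i + 1) →
      ∃ b ∈ B, b ∈ C (i + p - 1) ∧ b ∉ C (i + p))
    (htop : Nat.card (C (n - p + 1)) ≤ p ^ (p - 1)) (hH1 : H ≤ C 1) :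
    Nat.card H ≤ p ^ (p - 1) * Nat.card B := by
  have hpp : p.Prime := hp.out
  have hp1 : 1 ≤ p := hpp.one_lt.le
  -- main claim
  have claim : ∀ k, k ≤ n - p →
      Nat.card (H ⊓ C (n - p + 1 - k) : Subgroup G) ≤
        Nat.card (B ⊓ C (n - k) : Subgroup G) * Nat.card (H ⊓ C (n - p + 1) : Subgroup G) := by
    intro k
    induction k with
    | zero =>
      intro _
      have : Nat.card (B ⊓ C (n - 0) : Subgroup G) = 1 := by
        rw [Nat.sub_zero, hn, inf_bot_eq]
        exact Subgroup.card_bot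
      rw [this, one_mul, Nat.sub_zero]
    | succ k ih =>
      intro hk
      have ih' := ih (by omega)
      set i := n - p + 1 - (k + 1) with hi
      have hi1 : 1 ≤ i := by omega
      have hi2 : i + 1 = n - p + 1 - k := by omega
      have hi3 : i + p = n - k := by omega
      have hi4 : i + p - 1 = n - (k + 1) := by omega
      rw [← hi2] at ih'
      by_cases hex : ∃ h ∈ H, h ∈ C i ∧ h ∉ C (i + 1)
      · obtain ⟨h, hh, hhC, hhD⟩ := hex
        obtain ⟨b, hb, hbC, hbD⟩ := hPS i hi1 (by omega) h hh hhC hhD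
        rw [hi4] at hbC
        rw [hi3] at hbD
        have hmono : C (n - k) ≤ C (n - (k + 1)) := hanti (by omega)
        have h1 := Cfsg.Agent.Helper18.ChainCount.card_inf_ge hG B (C (n - (k + 1))) (C (n - k)) hmono b hb hbC hbD
        have h2 := Cfsg.Agent.Helper18.ChainCount.card_inf_le (p := p) H (C i) (C (i + 1)) (hanti (by omega))
          (hstep i (by omega))
        calc Nat.card (H ⊓ C i : Subgroup G) ≤ p * Nat.card (H ⊓ C (i + 1) : Subgroup G) := h2
          _ ≤ p * (Nat.card (B ⊓ C (n - k) : Subgroup G) *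
                Nat.card (H ⊓ C (n - p + 1) : Subgroup G)) := Nat.mul_le_mul_left _ ih'
          _ = (p * Nat.card (B ⊓ C (n - k) : Subgroup G)) *
                Nat.card (H ⊓ C (n - p + 1) : Subgroup G) := by ring
          _ ≤ Nat.card (B ⊓ C (n - (k + 1)) : Subgroup G) *
                Nat.card (H ⊓ C (n - p + 1) : Subgroup G) := Nat.mul_le_mul_right _ h1
      · have heq : H ⊓ C i = H ⊓ C (i + 1) := by
          apply le_antisymm
          · intro x hx
            refine ⟨hx.1, ?_⟩
            by_contra hxn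
            exact hex ⟨x, hx.1, hx.2, hxn⟩
          · exact inf_le_inf_left H (hanti (by omega))
        rw [heq]
        have hmono : B ⊓ C (n - k) ≤ B ⊓ C (n - (k + 1)) := inf_le_inf_left B (hanti (by omega))
        have hc := Nat.le_of_dvd Nat.card_pos (Subgroup.card_dvd_of_le hmono)
        exact ih'.trans (Nat.mul_le_mul_right _ hc)
  have hfin := claim (n - p) le_rfl
  have e1 : n - p + 1 - (n - p) = 1 := by omega
  have e2 : n - (n - p) = p := by omega
  rw [e1, e2, inf_eq_left.2 hH1] at hfin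
  have h4 : Nat.card (B ⊓ C p : Subgroup G) ≤ Nat.card B :=
    Nat.le_of_dvd Nat.card_pos (Subgroup.card_dvd_of_le inf_le_left)
  have h5 : Nat.card (H ⊓ C (n - p + 1) : Subgroup G) ≤ p ^ (p - 1) :=
    (Nat.le_of_dvd Nat.card_pos (Subgroup.card_dvd_of_le inf_le_right)).trans htop
  calc Nat.card H ≤ Nat.card (B ⊓ C p : Subgroup G) * Nat.card (H ⊓ C (n - p + 1) : Subgroup G) := hfin
    _ ≤ Nat.card B * p ^ (p - 1) := Nat.mul_le_mul h4 h5
    _ = p ^ (p - 1) * Nat.card B := by ring

variable {Y : Type*} [Group Y] [Finite Y] {p : ℕ} [Fact p.Prime] {n : ℕ}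

theorem p3_count_M2 (hn : 4 ≤ n) (hY : IsMC p n Y) (hnp : p + 2 ≤ n)
    (hU : ∀ j, 2 ≤ j → ∀ x ∈ K Y j, x ^ p ∈ K Y (j + p - 1))
    (hL : ∀ j, 2 ≤ j → j + p ≤ n → ∀ x ∈ K Y j, x ∉ K Y (j + 1) → x ^ p ∉ K Y (j + p))
    (hU1 : ∀ x, InM Y 2 x → x ^ p ∈ K Y p)
    (hL1 : ∀ x, InM Y 2 x → x ∉ K Y 2 → x ^ p ∉ K Y (p + 1))
    (H : Subgroup Y) (hH : ∀ h ∈ H, InM Y 2 h) :
    (Subgroup.closure {y : Y | ∃ h ∈ H, y = h ^ p}).relIndex H ≤ p ^ (p - 1) := by
  have hpp : p.Prime := Fact.out
  have hp2 : 2 ≤ p := hpp.two_le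
  have hG : IsPGroup p Y := isPGroup_of_isMC hY
  obtain ⟨M, hM, hMidx, hM2⟩ := exists_M (by omega : 3 ≤ n) hY (i := 2) le_rfl (by omega)
  set B := Subgroup.closure {y : Y | ∃ h ∈ H, y = h ^ p} with hB
  have hBH : B ≤ H := by
    rw [hB, Subgroup.closure_le]
    rintro _ ⟨h, hh, rfl⟩
    exact pow_mem hh p
  have hcardY : Nat.card Y = p ^ n := hY.1
  have hcardM : Nat.card M = p ^ (n - 1) := by
    have h := Subgroup.card_mul_index M
    rw [hMidx, hcardY] at h
    have e : p ^ n = p ^ (n - 1) * p := by rw [← pow_succ]; congr 1; omega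
    rw [e] at h
    exact Nat.eq_of_mul_eq_mul_right hpp.pos h
  have hcardC : ∀ i, i ≤ n → Nat.card (mc4Chain M i) = p ^ (n - i) := by
    intro i hi
    match i with
    | 0 => simpa [mc4Chain] using hcardY
    | 1 => simpa [mc4Chain] using hcardM
    | (j + 2) =>
      show Nat.card (K Y (j + 2)) = _
      exact card_K (by omega) hY (j + 2) (by omega) hi
  have hanti : Antitone (mc4Chain M) := by
    apply antitone_nat_of_succ_le
    intro i
    match i with
    | 0 => exact le_top
    | 1 => exact hM2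
    | (j + 2) => exact K_antitone (by omega)
  have hH1 : H ≤ mc4Chain M 1 := by
    intro h hh
    show h ∈ M
    exact (hM h).2 (hH h hh)
  have hcount := p3_chain_count hG n (mc4Chain M) hanti rfl
    (by rw [mc4Chain_ge_two M n (by omega)]; exact K_eq_bot (by omega) hY n le_rfl)
    (by
      intro i hi
      rw [hcardC i hi.le, hcardC (i + 1) hi, ← pow_succ']
      apply le_of_eq
      congr 1
      omega)
    (by omega) H B
    (by
      intro i hi1 hip h hh hhC hhD
      refine ⟨h ^ p, Subgroup.subset_closure ⟨h, hh, rfl⟩, ?_, ?_⟩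
      · rw [mc4Chain_ge_two M (i + p - 1) (by omega)]
        rcases Nat.lt_or_ge i 2 with h1 | h2
        · have hi' : i = 1 := by omega
          subst hi'
          have : 1 + p - 1 = p := by omega
          rw [this]
          exact hU1 h ((hM h).1 hhC)
        · rw [mc4Chain_ge_two M i h2] at hhC
          exact hU i h2 h hhC
      · rw [mc4Chain_ge_two M (i + p) (by omega)]
        rcases Nat.lt_or_ge i 2 with h1 | h2
        · have hi' : i = 1 := by omega
          subst hi'
          rw [mc4Chain_ge_two M (1 + 1) (by omega)] at hhD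
          rw [add_comm]
          exact hL1 h ((hM h).1 hhC) hhD
        · rw [mc4Chain_ge_two M i h2] at hhC
          rw [mc4Chain_ge_two M (i + 1) (by omega)] at hhD
          exact hL i h2 hip h hhC hhD)
    (by
      rw [hcardC (n - p + 1) (by omega)]
      apply le_of_eq
      congr 1
      omega)
    hH1
  exact Cfsg.Agent.Helper18.ChainCount.relIndex_le_of_card_le H B hBH hcount

end Cfsg.Agent.Helper21.MC
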