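import Mathlib
import Cfsg.Prelude.Def_FusionSystem
import Cfsg.Agent.S5185
import Cfsg.Agent.Lib.Helper25.Fusion
import Cfsg.Agent.Lib.Helper25.FusionAut
import Cfsg.Agent.Lib.Helper25.FusionSat3
import Cfsg.Agent.Lib.P3.P3Inv

/-!
# S5239 fusion block (helper3): for an abelian pearl `E` (essential of order `p ^ 2`, `p` odd) the
inversion of `E` is a map of the system (central involution of the `SL(2,p)` of `S5185`), and it
extends to a map of the system on `N_S(E)` (receptivity of the fully normalized `E`).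
-/

set_option autoImplicit false
universe u

namespace Cfsg.Agent.Helper21.P3

open Cfsg Cfsg.FusionSystem Cfsg.Agent.Helper25 Matrix

/-- group version of `p3f_inversion` (commutativity as a hypothesis) -/
theorem p3f_inversion' {V : Type*} [Group V] [Finite V] (hc : ∀ a b : V, a * b = b * a)
    (p : ℕ) [Fact p.Prime] (hp2 : p ≠ 2)
    (hcard : Nat.card V = p ^ 2) (hexp : ∀ x : V, x ^ p = 1) (κ β γ : MulAut V)
    (hκ2 : κ * κ = 1) (hκ1 : κ ≠ 1) (hβ : β * κ = κ * β) (hγ : γ * κ = κ * γ)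
    (hβγ : β * γ ≠ γ * β) : ∀ x, κ x = x⁻¹ := by
  let _ : CommGroup V := { (inferInstance : Group V) with mul_comm := hc }
  exact p3f_inversion p hp2 hcard hexp κ β γ hκ2 hκ1 hβ hγ hβγ

/-- the upper unitriangular generator -/
def p3fU (p : ℕ) : SpecialLinearGroup (Fin 2) (ZMod p) :=
  ⟨!![1, 1; 0, 1], by simp [Matrix.det_fin_two]⟩

/-- the lower unitriangular generator -/
def p3fV (p : ℕ) : SpecialLinearGroup (Fin 2) (ZMod p) :=
  ⟨!![1, 0; 1, 1], by simp [Matrix.det_fin_two]⟩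

theorem p3f_UV_ne (p : ℕ) [Fact p.Prime] : p3fU p * p3fV p ≠ p3fV p * p3fU p := by
  intro h
  have h1 : (p3fU p * p3fV p).1 0 0 = (p3fV p * p3fU p).1 0 0 := by rw [h]
  have h2 : (p3fU p * p3fV p).1 = (p3fU p).1 * (p3fV p).1 := rfl
  have h3 : (p3fV p * p3fU p).1 = (p3fV p).1 * (p3fU p).1 := rfl
  rw [h2, h3] at h1
  simp [p3fU, p3fV, Matrix.mul_apply, Fin.sum_univ_two] at h1

theorem p3f_neg_one_ne (p : ℕ) [Fact p.Prime] (hp2 : p ≠ 2) :
    (-1 : SpecialLinearGroup (Fin 2) (ZMod p)) ≠ 1 := by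
  intro h
  have h1 := congrArg
    (fun g : SpecialLinearGroup (Fin 2) (ZMod p) => (g : Matrix (Fin 2) (Fin 2) (ZMod p)) 0 0) h
  simp only [SpecialLinearGroup.coe_neg, Matrix.neg_apply] at h1
  have hp : p.Prime := Fact.out
  have : Fact (2 < p) := ⟨lt_of_le_of_ne hp.two_le (Ne.symm hp2)⟩
  exact ZMod.neg_one_ne_one h1

variable {Ω : Type u} [Group Ω] {S : Subgroup Ω}

/-- (F1) the inversion of an abelian pearl is a map of the system -/
theorem p3fus_inversion_mem [Finite S] (p : ℕ) [Fact p.Prime] (hp2 : p ≠ 2) (hS : IsPGroup p S)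
    (F : FusionSystem S) (hF : F.IsSaturated p) (E : Subgroup Ω) (hE : F.IsEssential p E)
    (hcard : Nat.card E = p ^ 2) :
    ∃ α : MulAut E, E.subtype.comp α.toMonoidHom ∈ F.Hom E ∧ ∀ x : E, α x = x⁻¹ := by
  obtain ⟨hel, K, ⟨e⟩⟩ := Cfsg.Agent.S5185.result p hS F hF E hE hcard
  have hES : E ≤ S := hE.2.1.1
  have : Finite E := finite_of_le_finite hES
  have hc : ∀ a b : E, a * b = b * a := fun a b => hel.1.is_comm.comm a b
  have hexp : ∀ x : E, x ^ p = 1 := fun x => Subtype.ext (by simpa using hel.2 x.1 x.2)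
  -- the coercion `K → MulAut E`
  let c : ↥K →* MulAut E := (F.autGroup E).subtype.comp K.subtype
  have hcinj : Function.Injective c :=
    (F.autGroup E).subtype_injective.comp K.subtype_injective
  let κ : MulAut E := c (e.symm (-1))
  let β : MulAut E := c (e.symm (p3fU p))
  let γ : MulAut E := c (e.symm (p3fV p))
  have hκ2 : κ * κ = 1 := by
    show c (e.symm (-1)) * c (e.symm (-1)) = 1
    rw [← map_mul, ← map_mul, neg_mul_neg, one_mul, map_one, map_one]
  have hκ1 : κ ≠ 1 := by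
    intro h
    have h1 : c (e.symm (-1)) = c 1 := by rw [map_one]; exact h
    have h2 := e.symm.injective ((hcinj h1).trans (map_one e.symm).symm)
    exact p3f_neg_one_ne p hp2 h2
  have hβ : β * κ = κ * β := by
    show c (e.symm (p3fU p)) * c (e.symm (-1)) = c (e.symm (-1)) * c (e.symm (p3fU p))
    rw [← map_mul, ← map_mul, ← map_mul, ← map_mul, mul_neg_one, neg_one_mul]
  have hγ : γ * κ = κ * γ := by
    show c (e.symm (p3fV p)) * c (e.symm (-1)) = c (e.symm (-1)) * c (e.symm (p3fV p))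
    rw [← map_mul, ← map_mul, ← map_mul, ← map_mul, mul_neg_one, neg_one_mul]
  have hβγ : β * γ ≠ γ * β := by
    intro h
    have h1 : c (e.symm (p3fU p * p3fV p)) = c (e.symm (p3fV p * p3fU p)) := by
      rw [map_mul, map_mul, map_mul, map_mul]; exact h
    exact p3f_UV_ne p (e.symm.injective (hcinj h1))
  have hinv := p3f_inversion' hc p hp2 hcard hexp κ β γ hκ2 hκ1 hβ hγ hβγ
  refine ⟨κ, ?_, hinv⟩
  have hmem : κ ∈ F.autGroup E := ((e.symm (-1) : ↥K) : ↥(F.autGroup E)).2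
  exact (mem_autGroup_iff F hES κ).mp hmem

/-- (F2) the inversion of an abelian pearl extends to `N_S(E)` -/
theorem p3fus_inversion_extends [Finite S] (p : ℕ) [Fact p.Prime] (hp2 : p ≠ 2) (hS : IsPGroup p S)
    (F : FusionSystem S) (hF : F.IsSaturated p) (E : Subgroup Ω) (hE : F.IsEssential p E)
    (hcard : Nat.card E = p ^ 2) :
    ∃ ψ ∈ F.Hom (normalizerIn S E),
      ∀ (x : Ω) (_ : x ∈ E) (hN : x ∈ normalizerIn S E), ψ ⟨x, hN⟩ = x⁻¹ := by
  obtain ⟨α, hα, hinv⟩ := p3fus_inversion_mem p hp2 hS F hF E hE hcard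
  have hES : E ≤ S := hE.2.1.1
  obtain ⟨-, -, hrec⟩ := of_fullyNormalized p hS F hF hE.2.1
  set φ : E →* Ω := E.subtype.comp α.toMonoidHom with hφ
  have hφx : ∀ x : E, φ x = (x : Ω)⁻¹ := by
    intro x
    show ((α x : E) : Ω) = (x : Ω)⁻¹
    rw [hinv x]
    rfl
  have hrange : φ.range = E := by
    ext y
    constructor
    · rintro ⟨x, rfl⟩
      rw [hφx]
      exact E.inv_mem x.2
    · intro hy
      refine ⟨⟨y⁻¹, E.inv_mem hy⟩, ?_⟩
      rw [hφx]
      simp
  obtain ⟨ψ, hψ, hψx⟩ := hrec.2 E φ hα hrange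
  have hle : normalizerIn S E ≤ extender S E φ := by
    apply normalizerIn_le_extender
    intro g hg
    refine ⟨g, hg.1, ?_⟩
    intro x hx
    rw [hφx, hφx]
    simp only [_root_.mul_inv_rev, inv_inv, mul_assoc]
  refine ⟨ψ.comp (Subgroup.inclusion hle), restrict_mem F hle hψ, ?_⟩
  intro x hxE hN
  show ψ (Subgroup.inclusion hle ⟨x, hN⟩) = x⁻¹
  have h1 := hψx x hxE (hle hN)
  rw [hφx] at h1
  exact h1

/-- (F2') the case `N_S(E) = S`: the inversion of `E` extends to an injective map of the system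
defined on all of `S` -/
theorem p3fus_inversion_extends_top [Finite S] (p : ℕ) [Fact p.Prime] (hp2 : p ≠ 2)
    (hS : IsPGroup p S) (F : FusionSystem S) (hF : F.IsSaturated p) (E : Subgroup Ω)
    (hE : F.IsEssential p E) (hcard : Nat.card E = p ^ 2)
    (hN : ∀ g ∈ S, g ∈ Subgroup.normalizer (E : Set Ω)) :
    ∃ ψ ∈ F.Hom S, (∀ x : S, ψ x ∈ S) ∧ Function.Injective ψ ∧
      ∀ (x : Ω) (_ : x ∈ E) (hxS : x ∈ S), ψ ⟨x, hxS⟩ = x⁻¹ := by
  obtain ⟨ψ, hψ, hψx⟩ := p3fus_inversion_extends p hp2 hS F hF E hE hcard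
  have hle : S ≤ normalizerIn S E := fun g hg => ⟨hg, hN g hg⟩
  have hψ' := restrict_mem F hle hψ
  refine ⟨ψ.comp (Subgroup.inclusion hle), hψ', (F.le_of_mem hψ').2, F.injective_of_mem hψ', ?_⟩
  intro x hxE hxS
  exact hψx x hxE (hle hxS)

end Cfsg.Agent.Helper21.P3
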