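import Mathlib
import Cfsg.Agent.Lib.Helper11.PearlGen
import Cfsg.Agent.Lib.Helper11.Pearl2

/-!
# S5239 (3-groups with a pearl), design helper21: transport of generating sets
-/

set_option autoImplicit false

namespace Cfsg.Agent.Helper21.P3

/-- transport a generating finset of `↥H` to the ambient group -/
theorem p3_transport {X : Type*} [Group X] (H : Subgroup X) (k : ℕ)
    (h : ∃ T : Finset ↥H, T.card ≤ k ∧ Subgroup.closure (T : Set ↥H) = ⊤) :
    ∃ T : Finset X, T.card ≤ k ∧ Subgroup.closure (T : Set X) = H := by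
  classical
  obtain ⟨T, hc, hT⟩ := h
  refine ⟨T.image (fun z : ↥H => (z : X)), Finset.card_image_le.trans hc, ?_⟩
  have h1 : ((T.image (fun z : ↥H => (z : X)) : Finset X) : Set X) = H.subtype '' (T : Set ↥H) := by
    rw [Finset.coe_image]
    rfl
  rw [h1, ← MonoidHom.map_closure, hT, ← MonoidHom.range_eq_map, Subgroup.range_subtype]

/-- a subgroup of order at most `9` of a `3`-group is generated by two elements -/
theorem p3_gen_of_card_le {X : Type*} [Group X] [Finite X] (hP : IsPGroup 3 X) (H : Subgroup X)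
    (hH : Nat.card H ≤ 9) :
    ∃ T : Finset X, T.card ≤ 2 ∧ Subgroup.closure (T : Set X) = H :=
  p3_transport H 2
    (Cfsg.Agent.Helper11.Pearl.pearl2_small_gen (p := 3) (hP.to_subgroup H) 2 (by norm_num; exact hH))

/-- a subgroup of maximal class is generated by two elements -/
theorem p3_gen_of_maxClass {X : Type*} [Group X] [Finite X] (H : Subgroup X) (m : ℕ) (hm : 2 ≤ m)
    (hH : Nat.card H = 3 ^ m) (hc : Group.nilpotencyClass ↥H = m - 1) :
    ∃ T : Finset X, T.card ≤ 2 ∧ Subgroup.closure (T : Set X) = H :=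
  p3_transport H 2 (Cfsg.Agent.Helper11.Pearl.pearl2_two_gen (p := 3) m hm hH hc)

/-- transport a generating finset of a subgroup of `↥S` to the ambient group -/
theorem p3_transport_sub {Ω : Type*} [Group Ω] {S : Subgroup Ω} (H : Subgroup Ω) (hHS : H ≤ S) (k : ℕ)
    (h : ∃ T : Finset ↥S, T.card ≤ k ∧ Subgroup.closure (T : Set ↥S) = H.subgroupOf S) :
    ∃ T : Finset Ω, T.card ≤ k ∧ Subgroup.closure (T : Set Ω) = H := by
  classical
  obtain ⟨T, hc, hT⟩ := h
  refine ⟨T.image (fun z : ↥S => (z : Ω)), Finset.card_image_le.trans hc, ?_⟩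
  have h1 : ((T.image (fun z : ↥S => (z : Ω)) : Finset Ω) : Set Ω) = S.subtype '' (T : Set ↥S) := by
    rw [Finset.coe_image]
    rfl
  rw [h1, ← MonoidHom.map_closure, hT, Subgroup.map_subgroupOf_eq_of_le hHS]

end Cfsg.Agent.Helper21.P3
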