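import Mathlib
import Cfsg.Agent.Lib.MC4.MC4PS
import Cfsg.Agent.Lib.Helper11.PearlGen
import Cfsg.Agent.Lib.Helper11.Pearl
import Cfsg.Agent.Lib.P3.P3Gen
import Cfsg.Agent.Lib.P3.P3Count

/-!
# S5239, case `|S| ≥ 3^5`: subgroups of `M_2` are 2-generated (design helper21)

PIECE P3-GENM2.  Recipe.  `hrel : B.relIndex H ≤ 3 ^ (3 - 1) = 9`, `B := closure {y | ∃ h ∈ H, y = h ^ 3}`, from
`p3_count_M2 (by omega) hY (by omega) ...` fed with `mc4_ps_upper`, `mc4_ps_lower`, `mc4_ps_upper_one`, `mc4_ps_lower_one`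
exactly as in `mc4_relIndex_le` (Lib/MC4/MC4PS.lean), `hp : (3 : ℕ) ≠ 2 := by norm_num`.
Then mimic `Cfsg.Agent.Helper11.Pearl.pearl_gen` (Lib/Helper11/Pearl.lean): inside the 3-group `↥H` the subgroup
`B' := B.subgroupOf H` is `≤ frattini ↥H` (generated by cubes: `pearlgen_pow_mem_frattini`) and has index
`B.relIndex H ≤ 3 ^ 2`, so `pearlgen_main hPH B' _ 2 _` gives a generating `Finset ↥H` of card `≤ 2`;
finish with `Cfsg.Agent.Helper21.P3.p3_transport`.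
-/

set_option autoImplicit false

namespace Cfsg.Agent.Helper21.MC

variable {Y : Type*} [Group Y] [Finite Y] {n : ℕ}

theorem p3_gen_of_le_M2 (hn : 5 ≤ n) (hY : IsMC 3 n Y) (H : Subgroup Y) (hH : ∀ h ∈ H, InM Y 2 h) :
    ∃ T : Finset Y, T.card ≤ 2 ∧ Subgroup.closure (T : Set Y) = H := by
  classical
  have hp3 : Fact (Nat.Prime 3) := ⟨by norm_num⟩
  have hp : (3 : ℕ) ≠ 2 := by norm_num
  have hn4 : 4 ≤ n := by omega
  have hnp : 3 + 2 ≤ n := by omega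
  have hrel : (Subgroup.closure {y : Y | ∃ h ∈ H, y = h ^ 3}).relIndex H ≤ 3 ^ (3 - 1) :=
    p3_count_M2 hn4 hY hnp (fun _ hj _ hx => mc4_ps_upper hn4 hY hp hj hx)
      (fun _ hj hjn _ hx hx' => mc4_ps_lower hn4 hY hp hj hjn hx hx')
      (fun _ hx => mc4_ps_upper_one hn4 hY hp hnp hx)
      (fun _ hx hx' => mc4_ps_lower_one hn4 hY hp hnp hx hx') H hH
  set B : Subgroup Y := Subgroup.closure {y : Y | ∃ h ∈ H, y = h ^ 3} with hB
  have hPY : IsPGroup 3 Y := isPGroup_of_isMC hY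
  have hPH : IsPGroup 3 ↥H := hPY.to_subgroup H
  have hBle : B ≤ (frattini ↥H).map H.subtype := by
    rw [hB, Subgroup.closure_le]
    rintro y ⟨h, hh, rfl⟩
    refine ⟨(⟨h, hh⟩ : ↥H) ^ 3, Cfsg.Agent.Helper11.PearlGen.pearlgen_pow_mem_frattini hPH _, ?_⟩
    simp
  have hN : B.subgroupOf H ≤ frattini ↥H := by
    intro z hz
    rw [Subgroup.mem_subgroupOf] at hz
    obtain ⟨w, hw, hwz⟩ := hBle hz
    have : w = z := H.subtype_injective hwz
    rwa [← this]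
  have hidx : (B.subgroupOf H).index ≤ 3 ^ 2 := hrel
  exact Cfsg.Agent.Helper21.P3.p3_transport H 2
    (Cfsg.Agent.Helper11.PearlGen.pearlgen_main hPH (B.subgroupOf H) hN 2 hidx)

end Cfsg.Agent.Helper21.MC
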