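import Mathlib
import Cfsg.Agent.Lib.MC.MCTwo
import Cfsg.Agent.Lib.MC.MCFrat
import Cfsg.Agent.Lib.MC4.MC4PS

/-!
# S5239, case `|S| ≥ 3^5`: a 3-group of maximal class of order `≥ 3^5` is not exceptional (design helper21)

PIECE P3-NONEXC: `M_{n-2} = M_2` for `p = 3`, `n ≥ 5`.  `hp3 : (3 : ℕ) ≠ 2 := by norm_num` for the `mc4_*` lemmas.
Recipe.  It suffices to prove `(*) ∀ g, InM Y 2 g → InM Y (n - 2) g`: then with `H₂`, `H'` from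
`exists_M` (`i = 2`, `i = n - 2`; both of index `3`), `H₂ ≤ H'` and equal index give `H₂ = H'`
(as in `exists_mem_not_mem` of `MCFrat`, or `Subgroup.relIndex_mul_index` + `Subgroup.relIndex_eq_one`).
Proof of `(*)`, for `g` with `InM Y 2 g`:
* `n ≥ 6`: pick `x ∈ K Y (n-4)`, `x ∉ K Y (n-3)` (`K_succ_lt`, `SetLike.exists_of_lt`).
  `x ^ 3 ∈ K Y (n-2)` (`mc4_ps_upper`, `j = n-4`), `x ^ 3 ∉ K Y (n-1)` (`mc4_ps_lower`, `j + 3 = n - 1 ≤ n`).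
  By `inM_iff_gen` (`i = n-2`): `InM Y (n-2) g ↔ ⁅x^3, g⁆ ∈ K Y n`.  `c := ⁅x, g⁆ ∈ K Y (n-2)` because `InM Y (n-4) g`
  (`mc4_all_eq`, `i = n - 4`).  Identity `⁅x^3, g⁆ = (x^2 * c * x⁻¹^2) * (x * c * x⁻¹) * c` (`group`).
  `⁅x, c⁆ ∈ K Y (2n-6) ≤ K Y n = ⊥` (`comm_mem`, `K_antitone`, `K_eq_bot`), so `x * c * x⁻¹ = c`, and the product
  is `c ^ 3 ∈ K Y (n - 2 + 3 - 1) = K Y n` by `mc4_ps_upper` (`j = n - 2`).
* `n = 5`: `H₂` from `exists_M` (`i = 2`); pick `x ∈ H₂`, `x ∉ K Y 2` (index 3 vs index 9: `index_K_two`).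
  `x ^ 3 ∈ K Y 3` (`mc4_ps_upper_one`, `hnp : 3 + 2 ≤ 5`), `x ^ 3 ∉ K Y 4` (`mc4_ps_lower_one`).  `inM_iff_gen` (`i = 3`):
  `InM Y 3 g ↔ ⁅x^3, g⁆ ∈ K Y 5 = ⊥`.  `g ∈ H₂ ≤ closure {x} ⊔ K Y 2` (`mc4e_sup_eq`), so `g = x^i * k`, `k ∈ K Y 2`
  (`Subgroup.mem_sup`, `Subgroup.mem_closure_singleton`; `K Y 2` normal), and
  `c := ⁅x, g⁆ = x^i * ⁅x, k⁆ * x^(-i) ∈ K Y 4` since `⁅k, x⁆ ∈ K Y 4` (`InM Y 2 x`) and `⁅x,k⁆ = ⁅k,x⁆⁻¹`.
  `K Y 4 ≤ center Y` (`K_pred_le_center`, `n - 1 = 4`), so `x * c * x⁻¹ = c` and `⁅x^3, g⁆ = c^3`, and `c ^ 3 = 1`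
  (`mc4_ps_upper`, `j = 4`: `c^3 ∈ K Y 6 = ⊥`).
Feel free to add auxiliary lemmas (prefix `p3nonexc_`).
-/

set_option autoImplicit false

namespace Cfsg.Agent.Helper21.MC

open scoped commutatorElement

variable {Y : Type*} [Group Y] [Finite Y] {n : ℕ}

omit [Finite Y] in
/-- if `x` commutes with `c = ⁅x, g⁆` then `⁅x ^ 3, g⁆ = c ^ 3` -/
theorem p3nonexc_comm_pow3 (x g : Y) (h : x * ⁅x, g⁆ * x⁻¹ = ⁅x, g⁆) :
    ⁅x ^ 3, g⁆ = ⁅x, g⁆ ^ 3 := by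
  have e : ⁅x * x * x, g⁆ = x * (x * ⁅x, g⁆ * x⁻¹) * x⁻¹ * (x * ⁅x, g⁆ * x⁻¹) * ⁅x, g⁆ := by
    simp only [commutatorElement_def]
    group
  rw [pow_three' x, e, h, h, pow_three']

/-- the key implication: `M_2 ≤ M_{n-2}` -/
theorem p3nonexc_imp (hn : 5 ≤ n) (hY : IsMC 3 n Y) (g : Y) (hg : InM Y 2 g) :
    InM Y (n - 2) g := by
  have hp3 : (3 : ℕ) ≠ 2 := by norm_num
  have hn3 : 3 ≤ n := by omega
  have hn4 : 4 ≤ n := by omega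
  obtain ⟨j, rfl⟩ : ∃ j, n = j + 4 := ⟨n - 4, by omega⟩
  have e0 : j + 4 - 2 = j + 2 := by omega
  rw [e0]
  have hbot : ∀ i, j + 4 ≤ i → K Y i = ⊥ := fun i hi => K_eq_bot hn3 hY i hi
  rcases Nat.lt_or_ge j 2 with hj1 | hj2
  · -- `n = 5`
    obtain rfl : j = 1 := by omega
    obtain ⟨H₂, hH₂, hi₂, hK₂⟩ := exists_M hn3 hY (i := 2) le_rfl (by omega)
    -- an element of `M_2` outside `K 2`
    have hlt : K Y 2 < H₂ := by
      refine lt_of_le_of_ne hK₂ ?_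
      intro heq
      have h1 := index_K_two hn3 hY
      rw [heq, hi₂] at h1
      norm_num at h1
    obtain ⟨x, hxH, hxK⟩ := SetLike.exists_of_lt hlt
    have hxM : InM Y 2 x := (hH₂ x).1 hxH
    have hx3 : x ^ 3 ∈ K Y 3 := mc4_ps_upper_one hn4 hY hp3 (by omega) hxM
    have hx3' : x ^ 3 ∉ K Y (3 + 1) := mc4_ps_lower_one hn4 hY hp3 (by omega) hxM hxK
    rw [show 1 + 2 = 3 by norm_num]
    rw [inM_iff_gen hn3 hY (i := 3) (by omega) (by omega) hx3 hx3' g]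
    -- `g = a * k`
    have hgH : g ∈ H₂ := (hH₂ g).2 hg
    have hgs := mc4e_sup_eq hn3 hY H₂ hK₂ hi₂ hxH hxK hgH
    obtain ⟨a, ha, k, hk, rfl⟩ := Subgroup.mem_sup_of_normal_right.1 hgs
    obtain ⟨m, rfl⟩ := Subgroup.mem_closure_singleton.1 ha
    -- `c = ⁅x, x^m * k⁆ = x^m * ⁅x, k⁆ * x^(-m)`
    have hc : ⁅x, x ^ m * k⁆ = x ^ m * ⁅x, k⁆ * (x ^ m)⁻¹ := by
      have h1 : x * x ^ m = x ^ m * x := ((Commute.refl x).zpow_right m).eq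
      have h2 : x⁻¹ * (x ^ m)⁻¹ = (x ^ m)⁻¹ * x⁻¹ := by
        rw [← mul_inv_rev, ← mul_inv_rev, h1]
      simp only [commutatorElement_def, mul_inv_rev]
      calc x * (x ^ m * k) * x⁻¹ * (k⁻¹ * (x ^ m)⁻¹)
          = (x * x ^ m) * k * x⁻¹ * k⁻¹ * (x ^ m)⁻¹ := by group
        _ = (x ^ m * x) * k * x⁻¹ * k⁻¹ * (x ^ m)⁻¹ := by rw [h1]
        _ = x ^ m * (x * k * x⁻¹ * k⁻¹) * (x ^ m)⁻¹ := by group
    have hkx : ⁅k, x⁆ ∈ K Y (2 + 2) := hxM k hk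
    have hxk : ⁅x, k⁆ ∈ K Y 4 := by
      rw [comm_swap k x]
      exact Subgroup.inv_mem _ hkx
    have hcK : ⁅x, x ^ m * k⁆ ∈ K Y 4 := by
      rw [hc]
      exact (K_normal 4).conj_mem _ hxk _
    have hcen : K Y 4 ≤ Subgroup.center Y := by
      have h1 := K_pred_le_center hn3 hY
      rwa [show 1 + 4 - 1 = 4 by norm_num] at h1
    have hcc : x * ⁅x, x ^ m * k⁆ * x⁻¹ = ⁅x, x ^ m * k⁆ := by
      have h1 := Subgroup.mem_center_iff.1 (hcen hcK) x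
      rw [h1, mul_inv_cancel_right]
    rw [p3nonexc_comm_pow3 x _ hcc]
    have h6 := mc4_ps_upper hn4 hY hp3 (j := 4) (by omega) hcK
    have h7 : K Y (4 + 3 - 1) = ⊥ := hbot _ (by omega)
    rw [h7, Subgroup.mem_bot] at h6
    rw [h6]
    exact Subgroup.one_mem _
  · -- `n ≥ 6`
    have hlt := K_succ_lt hn3 hY j (by omega) (by omega)
    obtain ⟨x, hxK, hxK'⟩ := SetLike.exists_of_lt hlt
    have hx3 : x ^ 3 ∈ K Y (j + 2) := by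
      have h1 := mc4_ps_upper hn4 hY hp3 hj2 hxK
      rwa [show j + 3 - 1 = j + 2 by omega] at h1
    have hx3' : x ^ 3 ∉ K Y (j + 2 + 1) := by
      have h1 := mc4_ps_lower hn4 hY hp3 hj2 (by omega) hxK hxK'
      rwa [show j + 3 = j + 2 + 1 by omega] at h1
    rw [inM_iff_gen hn3 hY (i := j + 2) (by omega) (by omega) hx3 hx3' g]
    have hgj : InM Y j g := (mc4_all_eq hn3 hY hp3 j hj2 (by omega) g).2 hg
    have hcK : ⁅x, g⁆ ∈ K Y (j + 2) := hgj x hxK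
    have hxc : ⁅x, ⁅x, g⁆⁆ = 1 := by
      have h1 := comm_mem (by omega : 1 ≤ j) (by omega : 1 ≤ j + 2) hxK hcK
      rw [hbot _ (by omega), Subgroup.mem_bot] at h1
      exact h1
    have hcc : x * ⁅x, g⁆ * x⁻¹ = ⁅x, g⁆ := by
      rw [commutatorElement_def] at hxc
      exact mul_inv_eq_one.1 hxc
    rw [p3nonexc_comm_pow3 x g hcc]
    have h6 := mc4_ps_upper hn4 hY hp3 (j := j + 2) (by omega) hcK
    rwa [show j + 2 + 3 - 1 = j + 2 + 2 by omega] at h6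

theorem p3_nonexc (hn : 5 ≤ n) (hY : IsMC 3 n Y) : ∀ g : Y, InM Y (n - 2) g ↔ InM Y 2 g := by
  have hn3 : 3 ≤ n := by omega
  obtain ⟨H₂, hH₂, hi₂, -⟩ := exists_M hn3 hY (i := 2) le_rfl (by omega)
  obtain ⟨H', hH', hi', -⟩ := exists_M hn3 hY (i := n - 2) (by omega) (by omega)
  have hle : H₂ ≤ H' := fun g hg => (hH' g).2 (p3nonexc_imp hn hY g ((hH₂ g).1 hg))
  have hcard : Nat.card H' ≤ Nat.card H₂ := by
    have h1 := Subgroup.card_mul_index H₂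
    have h2 := Subgroup.card_mul_index H'
    rw [hi₂] at h1
    rw [hi'] at h2
    omega
  have heq : H₂ = H' := Subgroup.eq_of_le_of_card_ge hle hcard
  intro g
  rw [← hH' g, ← hH₂ g, heq]

end Cfsg.Agent.Helper21.MC
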