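import Mathlib
import Cfsg.Agent.Lib.MC.MCUnif
import Cfsg.Agent.Lib.MC4.MC4PS
import Cfsg.Agent.Lib.Helper22.MaxClass
import Cfsg.Agent.Lib.P3.P3Gen
import Cfsg.Agent.Lib.P3.P3NonExc

/-!
# S5239, case `|S| ≥ 3^5`: subgroups containing an element outside `M_2` (design helper21)

PIECE P3-UNIF.
`p3_uniform`: `intro i hi hin hc`; if `i + 3 ≤ n` then `(mc4_all_eq _ hY (by norm_num) i hi _ h).mp hc` contradicts `hh`;
otherwise `i = n - 2` and `(p3_nonexc hn hY h).mp hc` does.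
`p3_gen_of_uniform`: `card_centralizer_le (by omega) hY hu : card (centralizer {h}) ≤ 3 ^ 2`.  `card H = 3 ^ m`
(`(isPGroup_of_isMC hY).to_subgroup H |>.exists_card_eq`).  If `m ≤ 2`: `Cfsg.Agent.Helper21.P3.p3_gen_of_card_le`.
Else apply `Cfsg.Agent.Helper22.maxClass_of_card_centralizer_le (p := 3) m _ ↥H hcard ⟨h, hh⟩ _` where
`card (centralizer {(⟨h,hh⟩ : ↥H)}) ≤ card (centralizer {h})` (the subtype map sends the former injectively into the
latter: `Nat.card_le_card_of_injective`), to get `nilpotencyClass ↥H = m - 1`; then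
`Cfsg.Agent.Helper21.P3.p3_gen_of_maxClass`.
-/

set_option autoImplicit false

namespace Cfsg.Agent.Helper21.MC

variable {Y : Type*} [Group Y] [Finite Y] {n : ℕ}

theorem p3_uniform (hn : 5 ≤ n) (hY : IsMC 3 n Y) {h : Y} (hh : ¬ InM Y 2 h) : IsUniform n Y h := by
  intro i hi hin hc
  by_cases h3 : i + 3 ≤ n
  · exact hh ((mc4_all_eq (by omega) hY (by norm_num) i hi h3 h).mp hc)
  · have hi2 : i = n - 2 := by omega
    rw [hi2] at hc
    exact hh ((p3_nonexc hn hY h).mp hc)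

theorem p3unif_card_centralizer_le (H : Subgroup Y) {h : Y} (hh : h ∈ H) :
    Nat.card (Subgroup.centralizer ({(⟨h, hh⟩ : ↥H)} : Set ↥H)) ≤
      Nat.card (Subgroup.centralizer ({h} : Set Y)) := by
  have hmem : ∀ z : ↥(Subgroup.centralizer ({(⟨h, hh⟩ : ↥H)} : Set ↥H)),
      (z.1 : ↥H).1 ∈ Subgroup.centralizer ({h} : Set Y) := by
    intro z
    rw [Subgroup.mem_centralizer_iff]
    intro g hg
    rw [Set.mem_singleton_iff] at hg
    subst hg
    have h1 := (Subgroup.mem_centralizer_iff.1 z.2) ⟨g, hh⟩ (Set.mem_singleton _)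
    exact congrArg Subtype.val h1
  apply Nat.card_le_card_of_injective
    (fun z => (⟨(z.1 : ↥H).1, hmem z⟩ : ↥(Subgroup.centralizer ({h} : Set Y))))
  intro z₁ z₂ h12
  have h3 : (z₁.1 : ↥H).1 = (z₂.1 : ↥H).1 := by
    have := congrArg Subtype.val h12
    simpa using this
  exact Subtype.ext (Subtype.ext h3)

theorem p3_gen_of_uniform (hn : 5 ≤ n) (hY : IsMC 3 n Y) (H : Subgroup Y) {h : Y} (hh : h ∈ H)
    (hu : IsUniform n Y h) :
    ∃ T : Finset Y, T.card ≤ 2 ∧ Subgroup.closure (T : Set Y) = H := by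
  have hP : IsPGroup 3 Y := isPGroup_of_isMC hY
  have hcen : Nat.card (Subgroup.centralizer ({h} : Set Y)) ≤ 3 ^ 2 :=
    card_centralizer_le (by omega) hY hu
  obtain ⟨m, hm⟩ := (hP.to_subgroup H).exists_card_eq
  rcases Nat.lt_or_ge m 3 with hlt | hge
  · apply Cfsg.Agent.Helper21.P3.p3_gen_of_card_le hP H
    rw [hm]
    calc 3 ^ m ≤ 3 ^ 2 := Nat.pow_le_pow_right (by norm_num) (by omega)
      _ = 9 := by norm_num
  · have hcH := le_trans (p3unif_card_centralizer_le H hh) hcen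
    have hmc := Cfsg.Agent.Helper22.maxClass_of_card_centralizer_le (p := 3) m (by omega) ↥H hm
      ⟨h, hh⟩ hcH
    exact Cfsg.Agent.Helper21.P3.p3_gen_of_maxClass H m (by omega) hm hmc.1

end Cfsg.Agent.Helper21.MC
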