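import Mathlib
import Cfsg.Agent.Lib.P3.P3Unif
import Cfsg.Agent.Lib.P3.P3GenM2

/-!
# S5239, case `|S| ≥ 3^5` assembled: every subgroup is 2-generated (design helper21)
-/

set_option autoImplicit false

namespace Cfsg.Agent.Helper21.MC

theorem p3_large {X : Type*} [Group X] [Finite X] (n : ℕ) (hn : 5 ≤ n) (hX : Nat.card X = 3 ^ n)
    (hmax : Group.nilpotencyClass X = n - 1) :
    ∀ H : Subgroup X, ∃ T : Finset X, T.card ≤ 2 ∧ Subgroup.closure (T : Set X) = H := by
  intro H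
  have hY : IsMC 3 n X := ⟨hX, hmax⟩
  by_cases hH : ∀ h ∈ H, InM X 2 h
  · exact p3_gen_of_le_M2 hn hY H hH
  · push_neg at hH
    obtain ⟨h, hh, hh'⟩ := hH
    exact p3_gen_of_uniform hn hY H hh (p3_uniform hn hY hh')

end Cfsg.Agent.Helper21.MC
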