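import Mathlib
import Cfsg.Agent.Lib.Helper11.PearlGen
import Cfsg.Agent.Lib.Helper11.Pearl2
import Cfsg.Agent.Lib.Helper23.PGroup
import Cfsg.Agent.Lib.P3.P3Gen

/-!
# S5239, case `|S| = 81`: a subgroup that is not 2-generated is elementary abelian of order 27

PIECE P3-O81A.  Recipe.  `X` is a 3-group (`IsPGroup.of_card (hX : card X = 3 ^ 4)`), so `card H = 3 ^ a`, `a ≤ 4`.
* `a = 4`: `H = ⊤` (`Subgroup.eq_top_of_card_eq`), and `Cfsg.Agent.Helper11.Pearl.pearl2_two_gen (p := 3) 4 _ hX hmax`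
  gives `T` with `closure T = ⊤ = H`: contradiction with `hH`.
* `a ≤ 2`: `p3_gen_of_card_le`: contradiction.
* `a = 3`: work in `↥H` (a 3-group of order 27).  If `frattini ↥H ≠ ⊥` then its index is `≤ 9`
  (`card (frattini ↥H) ≥ 3`), so `Cfsg.Agent.Helper11.PearlGen.pearlgen_main (hP) (frattini ↥H) le_rfl 2 _` and
  `p3_transport` contradict `hH`.  So `frattini ↥H = ⊥`; then `commutator ↥H ≤ frattini ↥H = ⊥`
  (`Cfsg.Agent.Helper23.commutator_le_frattini_pgroup 3 hP`) gives commutativity, and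
  `Cfsg.Agent.Helper11.PearlGen.pearlgen_pow_mem_frattini hP g : g ^ 3 ∈ frattini ↥H = ⊥` gives exponent 3.
-/

set_option autoImplicit false

namespace Cfsg.Agent.Helper21.P3

theorem p3_81_elab {X : Type*} [Group X] [Finite X] (hX : Nat.card X = 81)
    (hmax : Group.nilpotencyClass X = 3) (H : Subgroup X)
    (hH : ¬ ∃ T : Finset X, T.card ≤ 2 ∧ Subgroup.closure (T : Set X) = H) :
    Nat.card H = 27 ∧ (∀ a ∈ H, ∀ b ∈ H, a * b = b * a) ∧ ∀ a ∈ H, a ^ 3 = 1 := by
  classical
  have : Fact (Nat.Prime 3) := ⟨Nat.prime_three⟩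
  have hX' : Nat.card X = 3 ^ 4 := by rw [hX]; norm_num
  have hP : IsPGroup 3 X := IsPGroup.of_card hX'
  have hdvd : Nat.card H ∣ 3 ^ 4 := by rw [← hX']; exact Subgroup.card_subgroup_dvd_card H
  obtain ⟨a, ha4, hca⟩ := (Nat.dvd_prime_pow Nat.prime_three).mp hdvd
  have hsmall : ¬ Nat.card H ≤ 9 := fun h => hH (p3_gen_of_card_le hP H h)
  have ha3 : a = 3 := by
    interval_cases a
    · exact absurd (by rw [hca]; norm_num) hsmall
    · exact absurd (by rw [hca]; norm_num) hsmall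
    · exact absurd (by rw [hca]; norm_num) hsmall
    · rfl
    · exfalso
      have htop : H = ⊤ := Subgroup.eq_top_of_card_eq H (by rw [hca, hX'])
      obtain ⟨T, hT1, hT2⟩ := Cfsg.Agent.Helper11.Pearl.pearl2_two_gen (p := 3) 4 (by norm_num) hX'
        (by rw [hmax])
      exact hH ⟨T, hT1, by rw [hT2, htop]⟩
  subst ha3
  have hc27 : Nat.card H = 27 := by rw [hca]; norm_num
  have hPH : IsPGroup 3 ↥H := hP.to_subgroup H
  have hfr : frattini ↥H = ⊥ := by
    by_contra hne
    have hidx : (frattini ↥H).index ∣ 3 ^ 3 := by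
      rw [← hca]; exact Subgroup.index_dvd_card (frattini ↥H)
    obtain ⟨b, hb3, hib⟩ := (Nat.dvd_prime_pow Nat.prime_three).mp hidx
    have hmul := Subgroup.index_mul_card (frattini ↥H)
    have hb2 : b ≤ 2 := by
      by_contra hcon
      have hb : b = 3 := by omega
      rw [hib, hb, hca] at hmul
      have h1 : Nat.card (frattini ↥H) = 1 := by
        have : 3 ^ 3 * Nat.card (frattini ↥H) = 3 ^ 3 * 1 := by rw [hmul, mul_one]
        exact Nat.eq_of_mul_eq_mul_left (by norm_num) this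
      exact hne (Subgroup.card_eq_one.mp h1)
    have hle : (frattini ↥H).index ≤ 3 ^ 2 := by
      rw [hib]
      exact Nat.pow_le_pow_right (by norm_num) hb2
    have := Cfsg.Agent.Helper11.PearlGen.pearlgen_main hPH (frattini ↥H) le_rfl 2 hle
    exact hH (p3_transport H 2 this)
  refine ⟨hc27, ?_, ?_⟩
  · intro x hx y hy
    have h1 := Subgroup.commutator_mem_commutator (H₁ := (⊤ : Subgroup ↥H)) (H₂ := (⊤ : Subgroup ↥H))
      (Subgroup.mem_top (⟨x, hx⟩ : ↥H)) (Subgroup.mem_top (⟨y, hy⟩ : ↥H))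
    have h2 := (Cfsg.Agent.Helper23.commutator_le_frattini_pgroup 3 hPH) h1
    rw [hfr, Subgroup.mem_bot] at h2
    have h3 := commutatorElement_eq_one_iff_commute.mp h2
    have h4 := congrArg (fun z : ↥H => (z : X)) h3.eq
    simpa using h4
  · intro x hx
    have h1 := Cfsg.Agent.Helper11.PearlGen.pearlgen_pow_mem_frattini hPH (⟨x, hx⟩ : ↥H)
    rw [hfr, Subgroup.mem_bot] at h1
    have h2 := congrArg (fun z : ↥H => (z : X)) h1
    simpa using h2

end Cfsg.Agent.Helper21.P3
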