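import Mathlib
import Cfsg.Agent.Lib.Helper22.MaxClass
import Cfsg.Agent.Lib.Helper25.SylPerm9

/-!
# S5239, case `|S| = 81`: a subgroup of order 9 missing the centre

PIECE P3-O81B (proved by helper2).  `Z := center X` has order `3` (`Cfsg.Agent.Helper22.maxClass_facts`);
helper25's `SylPerm9.exists_plane_core_bot` gives a core-free `U` of order `9`, and `U ⊓ Z` is a normal subgroup of `X`
inside `U`, hence trivial.
-/

set_option autoImplicit false

namespace Cfsg.Agent.Helper21.P3

theorem p3_81_exists_U {X : Type*} [Group X] [Finite X] (hX : Nat.card X = 81)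
    (hmax : Group.nilpotencyClass X = 3) (H : Subgroup X) (hH : Nat.card H = 27)
    (hab : ∀ a ∈ H, ∀ b ∈ H, a * b = b * a) (hexp : ∀ a ∈ H, a ^ 3 = 1) :
    ∃ U : Subgroup X, Nat.card U = 9 ∧ U ⊓ Subgroup.center X = ⊥ := by
  have : Fact (Nat.Prime 3) := ⟨Nat.prime_three⟩
  have hZ : Nat.card (Subgroup.center X) = 3 :=
    (Cfsg.Agent.Helper22.maxClass_facts 3 4 (by norm_num) X (by rw [hX]; norm_num)
      (by rw [hmax])).2 (by norm_num)
  obtain ⟨U, hU, hcore⟩ := Cfsg.Agent.Helper25.SylPerm9.exists_plane_core_bot hX hZ H hH hab hexp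
  refine ⟨U, hU, ?_⟩
  have hn : (U ⊓ Subgroup.center X).Normal := by
    constructor
    intro n hn g
    have hc : n ∈ Subgroup.center X := hn.2
    have h1 : g * n * g⁻¹ = n := by
      rw [Subgroup.mem_center_iff] at hc
      rw [hc g, mul_inv_cancel_right]
    rw [h1]
    exact hn
  have hle : U ⊓ Subgroup.center X ≤ U.normalCore :=
    Subgroup.normal_le_normalCore.2 inf_le_left
  rw [hcore] at hle
  exact le_bot_iff.1 hle

end Cfsg.Agent.Helper21.P3
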