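import Mathlib
import Cfsg.Agent.Lib.Helper19.PGroupBasic

/-!
# S5239, case `|S| = 81`: the coset action on a core-free subgroup of index 9 is faithful

PIECE P3-O81C.  `(MulAction.toPermHom X (X ⧸ U)).ker = U.normalCore` (`Subgroup.normalCore_eq_ker`), which is
normal and `≤ U` (`Subgroup.normalCore_le`).  If it were `≠ ⊥`, then, `X` being a 3-group
(`IsPGroup.of_card (hX : card X = 3 ^ 4)`), `normalCore ⊓ center X ≠ ⊥`
(`normal_inf_center_ne_bot` in `Cfsg/Agent/Lib/Helper19/PGroupBasic.lean`), contradicting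
`U ⊓ center X = ⊥`.  Injectivity from `MonoidHom.ker_eq_bot_iff`.
-/

set_option autoImplicit false

namespace Cfsg.Agent.Helper21.P3

theorem p3_81_embed {X : Type*} [Group X] [Finite X] (hX : Nat.card X = 81) (U : Subgroup X)
    (hUZ : U ⊓ Subgroup.center X = ⊥) :
    Function.Injective (MulAction.toPermHom X (X ⧸ U)) := by
  haveI : Fact (Nat.Prime 3) := ⟨by norm_num⟩
  have hP : IsPGroup 3 X := IsPGroup.of_card (n := 4) (by rw [hX]; norm_num)
  rw [← MonoidHom.ker_eq_bot_iff, ← Subgroup.normalCore_eq_ker]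
  by_contra hne
  have h := Cfsg.Agent.Helper19.normal_inf_center_ne_bot hP U.normalCore hne
  apply h
  rw [eq_bot_iff, ← hUZ]
  exact inf_le_inf_right _ (Subgroup.normalCore_le U)

end Cfsg.Agent.Helper21.P3
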