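
import Mathlib

/-!
# S5239, case `|S| = 81`: a group of order 81 acting faithfully on 9 points is a Sylow 3-subgroup of `Sym(9)`

PIECE P3-O81D.  Recipe.  `e : α ≃ Fin 9` from `hα` (`Finite.equivFinOfCardEq` / `Nat.card_eq_fintype_card`),
`g := (e.permCongrHom).toMonoidHom.comp f : X →* Equiv.Perm (Fin 9)` is injective (`Equiv.permCongrHom` is a `MulEquiv`).
`R := g.range`, `card R = 81` (`MonoidHom.ofInjective`, `Nat.card_congr`).
`Nat.card (Equiv.Perm (Fin 9)) = 9! = 362880 = 3 ^ 4 * 4480` and `¬ 3 ∣ 4480`, so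
`(Nat.card (Equiv.Perm (Fin 9))).factorization 3 = 4` (e.g. `Nat.factorization_mul`, `Nat.Prime.factorization_pow`,
`Nat.factorization_eq_zero_of_not_dvd`; or `Nat.card_perm`/`Fintype.card_perm` + `decide`-free arithmetic;
`by norm_num [Nat.factorial]` computes `9!`).  `W := Sylow.ofCard R (by rw [...])`, then `(W : Subgroup _) = R`
(`Sylow.coe_ofCard`) and `X ≃* ↥R` is `MonoidHom.ofInjective`.
-/

set_option autoImplicit false

namespace Cfsg.Agent.Helper21.P3

theorem p3o81d_factorization : (Nat.card (Equiv.Perm (Fin 9))).factorization 3 = 4 := by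
  have h1 : Nat.card (Equiv.Perm (Fin 9)) = 3 ^ 4 * 4480 := by
    rw [Nat.card_eq_fintype_card, Fintype.card_perm, Fintype.card_fin]
    norm_num [Nat.factorial]
  rw [h1, Nat.factorization_mul (by norm_num) (by norm_num), Nat.Prime.factorization_pow Nat.prime_three]
  have h2 : (4480 : ℕ).factorization 3 = 0 :=
    Nat.factorization_eq_zero_of_not_dvd (by norm_num)
  simp [h2]

theorem p3_81_sylow {X : Type*} [Group X] [Finite X] (hX : Nat.card X = 81) {α : Type*} [Finite α]
    (hα : Nat.card α = 9) (f : X →* Equiv.Perm α) (hf : Function.Injective f) :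
    ∃ W : Sylow 3 (Equiv.Perm (Fin 9)), Nonempty (X ≃* ↥(W : Subgroup (Equiv.Perm (Fin 9)))) := by
  classical
  have e : α ≃ Fin 9 := Finite.equivFinOfCardEq hα
  set g : X →* Equiv.Perm (Fin 9) := (e.permCongrHom).toMonoidHom.comp f with hg
  have hginj : Function.Injective g := by
    intro a b hab
    apply hf
    exact (e.permCongrHom).injective hab
  have hcard : Nat.card g.range = 3 ^ (Nat.card (Equiv.Perm (Fin 9))).factorization 3 := by
    rw [p3o81d_factorization, ← Nat.card_congr (MonoidHom.ofInjective hginj).toEquiv, hX]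
    norm_num
  refine ⟨Sylow.ofCard g.range hcard, ⟨?_⟩⟩
  rw [Sylow.coe_ofCard]
  exact MonoidHom.ofInjective hginj

end Cfsg.Agent.Helper21.P3
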