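import Mathlib
import Cfsg.Agent.Lib.P3.P3O81a
import Cfsg.Agent.Lib.P3.P3O81b
import Cfsg.Agent.Lib.P3.P3O81c
import Cfsg.Agent.Lib.P3.P3O81d

/-!
# S5239, case `|S| = 81` assembled

PIECE P3-O81.  Recipe.  `by_cases h : ∀ H : Subgroup X, ∃ T : Finset X, T.card ≤ 2 ∧ closure T = H`; left if yes.
Otherwise `push_neg`, get `H`, `p3_81_elab hX hmax H _` gives order 27, abelian, exponent 3; `p3_81_exists_U` gives `U`
with `card U = 9`, `U ⊓ center X = ⊥`; `p3_81_embed hX U _` gives an injective `X →* Perm (X ⧸ U)`;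
`Nat.card (X ⧸ U) = U.index = 81 / 9 = 9` (`Subgroup.index_eq_card`, `Subgroup.card_mul_index`);
`p3_81_sylow hX (α := X ⧸ U) _ _ _` finishes.
-/

set_option autoImplicit false

namespace Cfsg.Agent.Helper21.P3

theorem p3_81_main {X : Type*} [Group X] [Finite X] (hX : Nat.card X = 81)
    (hmax : Group.nilpotencyClass X = 3) :
    (∀ H : Subgroup X, ∃ T : Finset X, T.card ≤ 2 ∧ Subgroup.closure (T : Set X) = H) ∨
      ∃ W : Sylow 3 (Equiv.Perm (Fin 9)), Nonempty (X ≃* ↥(W : Subgroup (Equiv.Perm (Fin 9)))) := by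
  by_cases h : ∀ H : Subgroup X, ∃ T : Finset X, T.card ≤ 2 ∧ Subgroup.closure (T : Set X) = H
  · exact Or.inl h
  · right
    rw [not_forall] at h
    obtain ⟨H, hH⟩ := h
    obtain ⟨hH27, hab, hexp⟩ := p3_81_elab hX hmax H hH
    obtain ⟨U, hU9, hUZ⟩ := p3_81_exists_U hX hmax H hH27 hab hexp
    have hinj := p3_81_embed hX U hUZ
    have hidx : Nat.card (X ⧸ U) = 9 := by
      have h1 : Nat.card U * U.index = Nat.card X := Subgroup.card_mul_index U
      rw [hU9, hX] at h1
      have h2 : U.index = 9 := by omega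
      rw [← Subgroup.index_eq_card]
      exact h2
    have : Finite (X ⧸ U) := Nat.finite_of_card_ne_zero (by rw [hidx]; norm_num)
    exact p3_81_sylow hX (α := X ⧸ U) hidx (MulAction.toPermHom X (X ⧸ U)) hinj

end Cfsg.Agent.Helper21.P3
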