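import Mathlib
import Cfsg.Prelude.Def_FusionSystem
import Cfsg.Agent.Lib.Helper11.Pearl
import Cfsg.Agent.Lib.Helper25.FusionOmit
import Cfsg.Agent.Lib.P3.P3Gen
import Cfsg.Agent.Lib.P3.P3Case27
import Cfsg.Agent.Lib.P3.P3O81
import Cfsg.Agent.Lib.P3.P3Large

/-!
# S5239 assembled (design helper21)

PIECE P3-MAIN (done by helper15).  Recipe.  `obtain ⟨n, hn⟩ := hS.exists_card_eq` (`card ↥S = 3 ^ n`).
`obtain ⟨hES, hcent⟩ := Cfsg.Agent.Helper11.Pearl.pearl_centric F 3 E hE`;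
`hclass : nilpotencyClass ↥S = n - 1 := Cfsg.Agent.Helper11.Pearl.pearl_class 3 E hES hcent hpearl' n hn` (with `hpearl'`
the weakened pearl hypothesis, as in `pearl_main2`).  `E ≠ S` by `Cfsg.Agent.Helper25.not_isEssential_self 3 F hF`, so
`card E < card S` (`E ≤ S`, finite: `Subgroup.card_le_of_le` + equality case `Subgroup.eq_of_le_of_card_ge`).
Since `card E ∈ {9, 27}`: `n ≥ 3`, and `n = 3` forces `card E = 9` (first branch of `hpearl`, which also gives
`hel : ∀ x ∈ E, x ^ 3 = 1`).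
* `n = 3`: left disjunct: `p3_case27 hS F hF E hE hcard hel (hS27) (hclass : class = 2)`, `card S = 27`.
* `n = 4`: `p3_81_main (X := ↥S) hn hclass`: `inl h` gives the middle disjunct (`81 ≤ card S`; for `H ≤ S` apply `h (H.subgroupOf S)`
  and `p3_transport_sub H hHS 2`); `inr h` is the right disjunct verbatim.
* `n ≥ 5`: middle disjunct from `Cfsg.Agent.Helper21.MC.p3_large n _ hn hclass` and `p3_transport_sub`; `81 ≤ 3 ^ n`.
-/

set_option autoImplicit false

namespace Cfsg.Agent.Helper21.P3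

open Cfsg Cfsg.FusionSystem

theorem p3_main {Ω : Type*} [Group Ω] {S : Subgroup Ω} [Finite S] (hS : IsPGroup 3 S)
    (F : Cfsg.FusionSystem S) (hF : F.IsSaturated 3) (E : Subgroup Ω) (hE : F.IsEssential 3 E)
    (hpearl : (Nat.card E = 9 ∧ ∀ x ∈ E, x ^ 3 = 1 ∧ IsMulCommutative ↥E) ∨
      (Nat.card E = 27 ∧ ¬ IsMulCommutative ↥E)) :
    (Cfsg.IsExtraspecial 3 ↥S ∧ Nat.card S = 27 ∧ Monoid.exponent ↥S = 3) ∨
      (81 ≤ Nat.card S ∧ ∀ H : Subgroup Ω, H ≤ S →
        ∃ T : Finset Ω, T.card ≤ 2 ∧ Subgroup.closure (T : Set Ω) = H) ∨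
      (∃ W : Sylow 3 (Equiv.Perm (Fin 9)), Nonempty (↥S ≃* ↥(W : Subgroup (Equiv.Perm (Fin 9))))) := by
  obtain ⟨n, hn⟩ := hS.exists_card_eq
  obtain ⟨hES, hcent⟩ := Cfsg.Agent.Helper11.Pearl.pearl_centric F 3 E hE
  have hpearl' : (Nat.card E = 3 ^ 2 ∧ IsMulCommutative ↥E) ∨
      (Nat.card E = 3 ^ 3 ∧ ¬ IsMulCommutative ↥E) := by
    rcases hpearl with ⟨h1, h2⟩ | ⟨h1, h2⟩
    · exact Or.inl ⟨by rw [h1]; norm_num, (h2 1 E.one_mem).2⟩
    · exact Or.inr ⟨by rw [h1]; norm_num, h2⟩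
  have hclass : Group.nilpotencyClass ↥S = n - 1 :=
    Cfsg.Agent.Helper11.Pearl.pearl_class 3 E hES hcent hpearl' n hn
  have hne : E ≠ S := fun h => Cfsg.Agent.Helper25.Omit.not_isEssential_self 3 F hF (h ▸ hE)
  have hlt : Nat.card E < Nat.card S := by
    have hle : Nat.card E ≤ Nat.card S := Subgroup.card_le_of_le hES
    rcases Nat.lt_or_ge (Nat.card E) (Nat.card S) with h | h
    · exact h
    · exact absurd (Subgroup.eq_of_le_of_card_ge hES h) hne
  rw [hn] at hlt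
  have hE9 : 9 ≤ Nat.card E := by
    rcases hpearl with ⟨h1, -⟩ | ⟨h1, -⟩ <;> omega
  have hn3 : 3 ≤ n := by
    by_contra hcon
    have h2 : n ≤ 2 := by omega
    have h3 : 3 ^ n ≤ 3 ^ 2 := Nat.pow_le_pow_right (by norm_num) h2
    omega
  rcases Nat.lt_or_ge n 5 with h5 | h5
  · rcases Nat.lt_or_ge n 4 with h4 | h4
    · -- `n = 3`
      obtain rfl : n = 3 := by omega
      have hS27 : Nat.card S = 27 := by rw [hn]; norm_num
      left
      rcases hpearl with ⟨h1, h2⟩ | ⟨h1, -⟩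
      · obtain ⟨hex, hexp⟩ := p3_case27 hS F hF E hE h1 (fun x hx => (h2 x hx).1) hS27 hclass
        exact ⟨hex, hS27, hexp⟩
      · exfalso
        norm_num at hlt
        omega
    · -- `n = 4`
      obtain rfl : n = 4 := by omega
      have hS81 : Nat.card S = 81 := by rw [hn]; norm_num
      rcases p3_81_main (X := ↥S) hS81 hclass with h | h
      · right; left
        refine ⟨by rw [hS81], fun H hHS => ?_⟩
        exact p3_transport_sub H hHS 2 (h (H.subgroupOf S))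
      · right; right
        exact h
  · -- `n ≥ 5`
    right; left
    refine ⟨?_, fun H hHS => ?_⟩
    · rw [hn]
      calc 81 ≤ 3 ^ 5 := by norm_num
        _ ≤ 3 ^ n := Nat.pow_le_pow_right (by norm_num) h5
    · exact p3_transport_sub H hHS 2
        (Cfsg.Agent.Helper21.MC.p3_large n h5 hn hclass (H.subgroupOf S))

end Cfsg.Agent.Helper21.P3
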